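import Cfsg.Agent.Omega.IId.BigD.Surv.Step

/-!
# CvBig (ii), `q = 2` (bb OMEGA 21130, helper165): (4), (5), (6)

* `Sl.te` : (4) `t` acts on `V i` as `e ↦ c * e`; `Sl.Yt_act` : `t` acts on `Yt = Ω₁Z(Q Q^t)` as a transvection with
  centre `c`;
* `Sl.tvj` : (5) `t` centralises `v j`, `j ≠ l`; `Sl.t_S0` : `t` normalises `S⁰`;
* `Sl.exists_s` : (6) the transposition `s = (i l)` of `S`;
* `Sl.false` : the contradiction; **`Sv.false`** : (SURV) is impossible.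
-/

set_option autoImplicit false
set_option linter.unusedSectionVars false

namespace Cfsg.Agent.Omega.IId.Surv

open Subgroup Cfsg
open Cfsg.Agent.ZN (o2 zc)
open Cfsg.Agent.MinSimple.VModule (le_o2 le_normalizer_o2 mem_zc o2_isPGroup o2_le normalizer_le_normalizer_zc)
open Triangle (KK KK_conj KK_le_o2 mem_cent mem_KK mem_zpowers_iff_of_sq cent_conj o2_cent_conj)
open Big (Fr Vo cz qz conj_mem norm_of comm_of_conj conj_of_comm isPGroup_of_sq le_Vo Vo_le cent_of_closure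
  norm_o2 le_o2_of sq_of_closure)
open Big.Syl (YY mem_YY YY_le exists_conj_le)

universe u

variable {G : Type u} [Group G]

theorem qz_cj (g : G) {p x : G} (hx : x ∈ qz p) : g * x * g⁻¹ ∈ qz (g * p * g⁻¹) := by
  have h1 : qz (g * p * g⁻¹) = (qz p).map (MulAut.conj g).toMonoidHom := o2_cent_conj g p
  rw [h1]
  exact ⟨x, hx, rfl⟩

/-- `Yt = Ω₁Z(Q) ∩ Ω₁Z(Q)^t` -/
def Yt (Q : Subgroup G) (t : G) : Subgroup G := zc Q ⊓ (zc Q).comap (MulAut.conj t⁻¹).toMonoidHom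

theorem mem_Yt {Q : Subgroup G} {t z : G} : z ∈ Yt Q t ↔ z ∈ zc Q ∧ t⁻¹ * z * t ∈ zc Q := by
  have e : (MulAut.conj t⁻¹).toMonoidHom z = t⁻¹ * z * t := by
    show t⁻¹ * z * t⁻¹⁻¹ = _
    rw [inv_inv]
  rw [Yt, mem_inf, mem_comap, e]

/-- `S⁰` -/
def S0 {ι : Type} (S : Subgroup G) (v : ι → G) : Subgroup G := S ⊓ centralizer (Set.range v)

theorem mem_S0 {ι : Type} {S : Subgroup G} {v : ι → G} {x : G} :
    x ∈ S0 S v ↔ x ∈ S ∧ ∀ j, x * v j = v j * x := by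
  rw [S0, mem_inf, mem_centralizer_iff]
  refine and_congr_right fun _ => ⟨fun h j => (h _ ⟨j, rfl⟩).symm, ?_⟩
  rintro h _ ⟨j, rfl⟩
  exact (h j).symm

/-- `D⁰ = Ω₁Z(S⁰) ∩ D^` -/
def D0 {ι : Type} (S : Subgroup G) (V : ι → Subgroup G) (v : ι → G) : Subgroup G := zc (S0 S v) ⊓ ⨅ j, CX V j

theorem mem_D0 {ι : Type} {S : Subgroup G} {V : ι → Subgroup G} {v : ι → G} {x : G} :
    x ∈ D0 S V v ↔ x ∈ zc (S0 S v) ∧ ∀ j, x ∈ CX V j := by
  rw [D0, mem_inf, mem_iInf]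

/-- an element of `S` which acts on the `V j` as `1`, `j ≠ l`, and fixes `v l`, acts on `Ω₁Z(Q)` as `1` or `a` -/
theorem Sd.two_case [Finite G] {ι : Type} {S Q : Subgroup G} {V : ι → Subgroup G} {v : ι → G} (h : Sd S Q V v)
    {l : ι} {k a e : G} (hk : k ∈ S) (hkl : k * v l = v l * k) (hkj : ∀ j, j ≠ l → ∀ x ∈ V j, k * x = x * k)
    (ha : a ∈ KK (v l)) (he : e ∈ V l) (he1 : e ≠ 1) (hve : v l ≠ e) (hae : a * e * a⁻¹ = v l * e) :
    (∀ z ∈ zc Q, k * z = z * k) ∨ ∀ z ∈ zc Q, a⁻¹ * k * z = z * (a⁻¹ * k) := by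
  have hal : a * v l = v l * a := Fr.KK_comm ha
  have haj : ∀ j, j ≠ l → ∀ x ∈ V j, a * x = x * a := fun j hj x hx =>
    h.fr.Qc l j hj _ (h.vV l) (h.v1 l) a (h.fr.KK_le_q (h.vV l) (h.v1 l) ha) x hx
  rcases h.fix_act hk hkl he with h1 | h1
  · left
    refine fun z hz => h.SY k hk (fun j x hx => ?_) z hz
    by_cases hj : j = l
    · subst hj
      exact h.fixV (h.vV j) (h.v1 j) he he1 hve hkl (comm_of_conj h1) hx
    · exact hkj j hj x hx
  · right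
    refine fun z hz => h.SY _ (mul_mem (inv_mem (h.KS l ha)) hk) (fun j x hx => ?_) z hz
    by_cases hj : j = l
    · subst hj
      refine h.fixV (h.vV j) (h.v1 j) he he1 hve ?_ (comm_of_conj ?_) hx
      · calc a⁻¹ * k * v j = a⁻¹ * (v j * k) := by rw [mul_assoc, hkl]
          _ = v j * (a⁻¹ * k) := by
            rw [← mul_assoc, ((show Commute a (v j) from hal).inv_left).eq, mul_assoc]
      · calc a⁻¹ * k * e * (a⁻¹ * k)⁻¹ = a⁻¹ * (k * e * k⁻¹) * a := by group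
          _ = a⁻¹ * (a * e * a⁻¹) * a := by rw [h1, hae]
          _ = e := by group
    · calc a⁻¹ * k * x = a⁻¹ * (x * k) := by rw [mul_assoc, hkj j hj x hx]
        _ = x * (a⁻¹ * k) := by
          rw [← mul_assoc, ((show Commute a x from haj j hj x hx).inv_left).eq, mul_assoc]

namespace Sl

variable [Finite G] {ι : Type} {S : Sylow 2 G} {Q : Subgroup G} {V : ι → Subgroup G} {v : ι → G} {i : ι}
  {y g₀ t : G} {l : ι} (h : Sl S Q V v i y g₀ t l)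
include h

theorem c_eq : v i * y * v l = v i * (v l * y) := by
  rw [mul_assoc, h.sd.zq_mul_comm h.hy (h.sd.v_zq l)]

theorem tl' : t * v l * t⁻¹ = v i * y * v l := by
  have h1 : v l = v i * y * (t * v l * t⁻¹) := by
    calc v l = t * (t⁻¹ * v l * t) * t⁻¹ := by group
      _ = (t * (v i * y)) * v l * t⁻¹ := by rw [h.tl]; group
      _ = v i * y * (t * v l * t⁻¹) := by rw [h.t_c]; group
  calc t * v l * t⁻¹ = (v i * y * (v i * y)) * (t * v l * t⁻¹) := by rw [h.cc, one_mul]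
    _ = v i * y * (v i * y * (t * v l * t⁻¹)) := by group
    _ = v i * y * v l := by rw [← h1]

/-- `T` fixes `l` -/
theorem T_l {s : G} (hs : s ∈ (S : Subgroup G) ⊓ cz (v i)) : s * v l = v l * s := by
  obtain ⟨m, -, hm⟩ := h.sd.perm s hs.1 l
  by_cases hml : m = l
  · subst hml
    exact comm_of_conj hm
  exfalso
  have hsy : s * y * s⁻¹ = y := conj_of_comm (h.yT s hs.1 (mem_cent.1 hs.2))
  have h1 := h.sd.CX_conj hs.1 h.dX l
  have h2 : s * (v l * y) * s⁻¹ = v m * y := by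
    calc s * (v l * y) * s⁻¹ = (s * v l * s⁻¹) * (s * y * s⁻¹) := by group
      _ = v m * y := by rw [hm, hsy]
  rw [h2] at h1
  have h3 : v l = (v l * y) * (v m * y)⁻¹ * v m := by group
  apply h.sd.v_notCX l
  rw [h3]
  exact mul_mem (mul_mem (h.dX l) (inv_mem h1)) (h.sd.v_CX hml)

theorem y_notCX : y ∉ CX V l := fun hc => h.sd.v_notCX l (by
  have h1 := mul_mem (h.dX l) (inv_mem hc)
  rwa [mul_inv_cancel_right] at h1)

theorem T_d {s : G} (hs : s ∈ (S : Subgroup G) ⊓ cz (v i)) : s * (v l * y) = v l * y * s := by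
  calc s * (v l * y) = (s * v l) * y := by group
    _ = v l * (s * y) := by rw [h.T_l hs]; group
    _ = v l * y * s := by rw [h.yT s hs.1 (mem_cent.1 hs.2)]; group

/-- **(4)**: `t` acts on `V i` as `e ↦ c * e`. -/
theorem te {e : G} (he : e ∈ V i) (he1 : e ≠ 1) (hve : v i ≠ e) : t * e * t⁻¹ = v i * y * e := by
  rcases h.act h.tK (h.V_qc he) with h1 | h1
  swap
  · exact h1
  exfalso
  obtain ⟨r, hr, hrv⟩ := h.sd.fr.move he (h.sd.vV i) he1 (h.sd.v1 i) (Ne.symm hve)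
  have hr' : t⁻¹ * r * t ∈ KK e := by
    have h2 := KK_conj (h := t⁻¹) hr
    have e1 : t⁻¹ * e * t⁻¹⁻¹ = e := by
      calc t⁻¹ * e * t⁻¹⁻¹ = t⁻¹ * (t * e * t⁻¹) * t := by rw [h1]; group
        _ = e := by group
    rwa [e1, inv_inv] at h2
  have h2 : t⁻¹ * r * t * v l = v l * (t⁻¹ * r * t) :=
    h.sd.fr.Qc i l h.li e he he1 _ (h.sd.fr.KK_le_q he he1 hr') _ (h.sd.vV l)
  have h3 : r * (v i * (v l * y)) = v i * (v l * y) * r := by
    rw [← h.c_eq, ← h.tl']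
    calc r * (t * v l * t⁻¹) = t * ((t⁻¹ * r * t) * v l) * t⁻¹ := by group
      _ = t * v l * t⁻¹ * r := by rw [h2]; group
  have h4 : r * (v l * y) = v l * y * r := h.dX i e he he1 r hr
  have h5 : r * v i = v i * r := by
    have h6 : r * v i * (v l * y) = v i * r * (v l * y) := by
      calc r * v i * (v l * y) = r * (v i * (v l * y)) := by group
        _ = v i * ((v l * y) * r) := by rw [h3]; group
        _ = v i * r * (v l * y) := by rw [← h4]; group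
    exact mul_right_cancel h6
  rw [conj_of_comm h5] at hrv
  exact he1 (mul_eq_right.1 hrv.symm)

/-! #### `Yt` -/

theorem Yt_t {z : G} (hz : z ∈ Yt Q t) : t * z * t⁻¹ ∈ Yt Q t := by
  obtain ⟨h1, h2⟩ := mem_Yt.1 hz
  refine mem_Yt.2 ⟨h.swap h2, ?_⟩
  have e : t⁻¹ * (t * z * t⁻¹) * t = z := by group
  rwa [e]

theorem Yt_t' {z : G} (hz : z ∈ Yt Q t) : t⁻¹ * z * t ∈ Yt Q t := by
  obtain ⟨h1, h2⟩ := mem_Yt.1 hz
  refine mem_Yt.2 ⟨h2, h.swap' ?_⟩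
  have e : t * (t⁻¹ * z * t) * t⁻¹ = z := by group
  rwa [e]

theorem mem_Yt_of {z : G} (hz : z ∈ zc Q) (ha : ∀ a ∈ KK (v l), a * z = z * a) : z ∈ Yt Q t := by
  refine mem_Yt.2 ⟨hz, h.conj_zq' hz fun q hq => ?_⟩
  obtain ⟨e, he, he1, hve⟩ := h.sd.fr.exists_other (i := l) (v l)
  obtain ⟨a, haK, hae⟩ := h.sd.fr.move (h.sd.vV l) he (h.sd.v1 l) he1 hve
  rcases h.sd.two_case (h.kap hq).2.1 (h.KT_fix (h.kap hq).1 (h.kap hq).2 l) (h.kj q hq) haK he he1 hve hae with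
    h1 | h1
  · exact h1 z hz
  · have h2 := ha a haK
    calc t * q * t⁻¹ * q⁻¹ * z = a * (a⁻¹ * (t * q * t⁻¹ * q⁻¹) * z) := by group
      _ = (a * z) * (a⁻¹ * (t * q * t⁻¹ * q⁻¹)) := by rw [h1 z hz]; group
      _ = z * (t * q * t⁻¹ * q⁻¹) := by rw [h2]; group

theorem Yt_comm {z a : G} (hz : z ∈ Yt Q t) (ha : a ∈ KK (v l)) : a * z = z * a := by
  obtain ⟨h1, h2⟩ := mem_Yt.1 hz
  obtain ⟨q, hq, e, he, hke⟩ := h.k0
  have hk := h.kap hq
  obtain ⟨k, ek⟩ : ∃ k, k = t * q * t⁻¹ * q⁻¹ := ⟨_, rfl⟩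
  have hkz : k * z = z * k := by
    have h3 := h.sd.zq_comm h2 hq
    rw [ek]
    calc t * q * t⁻¹ * q⁻¹ * z = t * q * t⁻¹ * (q⁻¹ * z) := by group
      _ = t * (q * (t⁻¹ * z * t)) * t⁻¹ * q⁻¹ := by
        rw [((show Commute q z from h.sd.zq_comm h1 hq).inv_left).eq]; group
      _ = z * (t * q * t⁻¹ * q⁻¹) := by rw [h3]; group
  rw [← ek] at hke hk
  have hkl := h.KT_fix hk.1 hk.2 l
  have he1 : e ≠ 1 := by
    rintro rfl
    rw [mul_one, mul_one, mul_inv_cancel] at hke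
    exact h.sd.v1 l hke.symm
  have hve : v l ≠ e := by
    rintro rfl
    rw [conj_of_comm hkl] at hke
    exact h.sd.v1 l (mul_eq_right.1 hke.symm)
  have haS := h.sd.KS l ha
  have hal : a * v l = v l * a := Fr.KK_comm ha
  rcases h.sd.fix_act haS hal he with h3 | h3
  · refine h.sd.SY a haS (fun j x hx => ?_) z h1
    by_cases hj : j = l
    · subst hj
      exact h.sd.fixV (h.sd.vV j) (h.sd.v1 j) he he1 hve hal (comm_of_conj h3) hx
    · exact h.sd.fr.Qc l j hj _ (h.sd.vV l) (h.sd.v1 l) a (h.sd.fr.KK_le_q (h.sd.vV l) (h.sd.v1 l) ha) x hx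
  · rcases h.sd.two_case hk.2.1 hkl (by rw [ek]; exact h.kj q hq) ha he he1 hve h3 with h4 | h4
    · exfalso
      rw [conj_of_comm (h4 e (h.sd.V_zq l he))] at hke
      exact h.sd.v1 l (mul_eq_right.1 hke.symm)
    · have h5 := h4 z h1
      have h6 : a⁻¹ * z = z * a⁻¹ := by
        have h7 : a⁻¹ * z * k = z * a⁻¹ * k := by
          calc a⁻¹ * z * k = a⁻¹ * k * z := by rw [mul_assoc, ← hkz, mul_assoc]
            _ = z * a⁻¹ * k := by rw [h5]; group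
        exact mul_right_cancel h7
      calc a * z = a * (z * a⁻¹) * a := by group
        _ = a * (a⁻¹ * z) * a := by rw [h6]
        _ = z * a := by group

theorem V_Yt {j : ι} (hj : j ≠ l) : V j ≤ Yt Q t := fun x hx =>
  h.mem_Yt_of (h.sd.V_zq j hx) fun a ha =>
    h.sd.fr.Qc l j hj _ (h.sd.vV l) (h.sd.v1 l) a (h.sd.fr.KK_le_q (h.sd.vV l) (h.sd.v1 l) ha) x hx

theorem v_Yt (j : ι) : v j ∈ Yt Q t := by
  by_cases hj : j = l
  · subst hj
    exact h.mem_Yt_of (h.sd.v_zq j) fun a ha => Fr.KK_comm ha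
  · exact h.V_Yt hj (h.sd.vV j)

theorem Yt_q {z : G} (hz : z ∈ Yt Q t) : z ∈ qz (v i * y) := by
  obtain ⟨e, he, he1, hve⟩ := h.sd.fr.exists_other (i := i) (v i)
  have hee := h.sd.fr.sq i e he
  have hev1 : e * v i ≠ 1 := fun h0 => hve (by
    have h1 := eq_inv_of_mul_eq_one_right h0
    rwa [inv_eq_of_mul_eq_one_left hee] at h1)
  have hne : e ≠ e * v i := fun h0 => h.sd.v1 i (mul_eq_left.1 h0.symm)
  obtain ⟨r, hr, hrv⟩ := h.sd.fr.move he (mul_mem he (h.sd.vV i)) he1 hev1 hne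
  have hrv' : r * (e * v i) * r⁻¹ = v i := by rw [hrv, ← mul_assoc, hee, one_mul]
  have hz1 : r⁻¹ * z * r ∈ Yt Q t := by
    have h1 := h.sd.zq_act he he1 (inv_mem hr) (mem_Yt.1 hz).1
    rw [inv_inv] at h1
    rcases h1 with h1 | h1
    · rw [h1]; exact hz
    · rw [h1]; exact mul_mem (h.V_Yt (Ne.symm h.li) he) hz
  have hz2 := qz_cj t (h.sd.zq_q he he1 (mem_Yt.1 hz1).2)
  have e1 : t * (t⁻¹ * (r⁻¹ * z * r) * t) * t⁻¹ = r⁻¹ * z * r := by group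
  rw [e1, h.te he he1 hve] at hz2
  have hz3 := qz_cj r hz2
  have e2 : r * (r⁻¹ * z * r) * r⁻¹ = z := by group
  have hry : r * y * r⁻¹ = y := conj_of_comm (h.yX e he he1 r hr)
  have e3 : r * (v i * y * e) * r⁻¹ = v i * y := by
    have e4 : v i * y * e = e * v i * y := by
      rw [mul_assoc, h.sd.zq_mul_comm h.hy (h.sd.V_zq i he), ← mul_assoc, h.sd.fr.comm i i _ (h.sd.vV i) e he]
    calc r * (v i * y * e) * r⁻¹ = (r * (e * v i) * r⁻¹) * (r * y * r⁻¹) := by rw [e4]; group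
      _ = v i * y := by rw [hrv', hry]
  rwa [e2, e3] at hz3

theorem Yt_act {z : G} (hz : z ∈ Yt Q t) : t * z * t⁻¹ = z ∨ t * z * t⁻¹ = v i * y * z :=
  h.act h.tK (h.Yt_q hz)

theorem Yt_act' {z : G} (hz : z ∈ Yt Q t) : t⁻¹ * z * t = z ∨ t⁻¹ * z * t = v i * y * z := by
  have e : t * (t⁻¹ * z * t) * t⁻¹ = z := by group
  rcases h.Yt_act (h.Yt_t' hz) with h1 | h1
  · left; rw [e] at h1; exact h1.symm
  · right
    rw [e] at h1
    calc t⁻¹ * z * t = (v i * y * (v i * y)) * (t⁻¹ * z * t) := by rw [h.cc, one_mul]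
      _ = v i * y * (v i * y * (t⁻¹ * z * t)) := by group
      _ = v i * y * z := by rw [← h1]

/-- **(5)**: `t` centralises `v j`, `j ≠ l`. -/
theorem tvj {j : ι} (hjl : j ≠ l) : t * v j = v j * t := by
  by_cases hji : j = i
  · subst hji
    exact h.t_v
  rcases h.Yt_act (h.v_Yt j) with h1 | h1
  · exact comm_of_conj h1
  exfalso
  obtain ⟨e, he, he1, hve⟩ := h.sd.fr.exists_other (i := j) (v j)
  obtain ⟨a, ha, hae⟩ := h.sd.fr.move (h.sd.vV j) he (h.sd.v1 j) he1 hve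
  have haT : a ∈ (S : Subgroup G) ⊓ cz (v i) := ⟨h.sd.KS j ha, mem_cent.2
    (h.sd.fr.Qc j i (Ne.symm hji) _ (h.sd.vV j) (h.sd.v1 j) a (h.sd.fr.KK_le_q (h.sd.vV j) (h.sd.v1 j) ha) _
      (h.sd.vV i))⟩
  have hsT := h.tT1 haT
  obtain ⟨s, es⟩ : ∃ s, s = t * a * t⁻¹ := ⟨_, rfl⟩
  rw [← es] at hsT
  have hact : ∀ z ∈ Yt Q t, s * z * s⁻¹ = z ∨ s * z * s⁻¹ = v i * y * v j * z := by
    intro z hz
    rcases h.sd.zq_act (h.sd.vV j) (h.sd.v1 j) ha (mem_Yt.1 hz).2 with h2 | h2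
    · left
      calc s * z * s⁻¹ = t * (a * (t⁻¹ * z * t) * a⁻¹) * t⁻¹ := by rw [es]; group
        _ = z := by rw [h2]; group
    · right
      calc s * z * s⁻¹ = t * (a * (t⁻¹ * z * t) * a⁻¹) * t⁻¹ := by rw [es]; group
        _ = (t * v j * t⁻¹) * z := by rw [h2]; group
        _ = v i * y * v j * z := by rw [h1]
  have hsl := h.T_l hsT
  have hsm : ∀ m, m ≠ l → ∀ x ∈ V m, s * x = x * s := by
    intro m hm x hx
    rcases hact x (h.V_Yt hm hx) with h2 | h2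
    · exact comm_of_conj h2
    exfalso
    obtain ⟨m', hm', hvm⟩ := h.sd.perm s hsT.1 m
    have hml : m' ≠ l := by
      rintro rfl
      have h3 : v m = v m' := by
        calc v m = s⁻¹ * (s * v m * s⁻¹) * s := by group
          _ = s⁻¹ * (v m' * s) := by rw [hvm]; group
          _ = v m' := by rw [← hsl]; group
      exact hm (h.sd.v_inj h3)
    have h3 := hm' x hx
    rw [h2] at h3
    apply h.y_notCX
    have h4 : y = (v i)⁻¹ * (v i * y * v j * x) * x⁻¹ * (v j)⁻¹ := by group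
    rw [h4]
    exact mul_mem (mul_mem (mul_mem (inv_mem (h.sd.v_CX (Ne.symm h.li))) (h.sd.V_CX hml h3))
      (inv_mem (h.sd.V_CX hm hx))) (inv_mem (h.sd.v_CX hjl))
  obtain ⟨e', he', he1', hve'⟩ := h.sd.fr.exists_other (i := l) (v l)
  obtain ⟨a', ha', hae'⟩ := h.sd.fr.move (h.sd.vV l) he' (h.sd.v1 l) he1' hve'
  have hz := h.Yt_t (h.V_Yt hjl he)
  have hsz : s * (t * e * t⁻¹) = t * e * t⁻¹ * s := by
    rcases h.sd.two_case hsT.1 hsl hsm ha' he' he1' hve' hae' with h2 | h2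
    · exact h2 _ (mem_Yt.1 hz).1
    · have h3 := h2 _ (mem_Yt.1 hz).1
      have h4 := h.Yt_comm hz ha'
      calc s * (t * e * t⁻¹) = a' * (a'⁻¹ * s * (t * e * t⁻¹)) := by group
        _ = (a' * (t * e * t⁻¹)) * (a'⁻¹ * s) := by rw [h3]; group
        _ = t * e * t⁻¹ * s := by rw [h4]; group
  have h5 : a * e * a⁻¹ = e := by
    calc a * e * a⁻¹ = t⁻¹ * (s * (t * e * t⁻¹)) * (t * a⁻¹) := by rw [es]; group
      _ = t⁻¹ * (t * e * t⁻¹ * s) * (t * a⁻¹) := by rw [hsz]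
      _ = e := by rw [es]; group
  rw [h5] at hae
  exact h.sd.v1 j (mul_eq_right.1 hae.symm)

/-! #### `S⁰` -/

theorem S0_T : S0 (S : Subgroup G) v ≤ (S : Subgroup G) ⊓ cz (v i) := fun _ hx =>
  ⟨(mem_S0.1 hx).1, mem_cent.2 ((mem_S0.1 hx).2 i)⟩

theorem Q_S0 : Q ≤ S0 (S : Subgroup G) v := fun q hq =>
  mem_S0.2 ⟨h.sd.QS hq, fun j => h.sd.QV j _ (h.sd.vV j) q hq⟩

theorem t_S0 : t ∈ normalizer (S0 (S : Subgroup G) v : Set G) := by
  rw [mem_normalizer_iff]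
  intro x
  constructor
  · intro hx
    have hxT := h.tT1 (h.S0_T hx)
    refine mem_S0.2 ⟨hxT.1, fun j => ?_⟩
    by_cases hj : j = l
    · subst hj
      exact h.T_l hxT
    · have h1 := h.tvj hj
      have h2 : t⁻¹ * v j = v j * t⁻¹ := ((show Commute t (v j) from h1).inv_left).eq
      calc t * x * t⁻¹ * v j = t * x * (t⁻¹ * v j) := by group
        _ = t * (x * v j) * t⁻¹ := by rw [h2]; group
        _ = (t * v j) * x * t⁻¹ := by rw [(mem_S0.1 hx).2 j]; group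
        _ = v j * (t * x * t⁻¹) := by rw [h1]; group
  · intro hx
    have hxT : x ∈ (S : Subgroup G) ⊓ cz (v i) := by
      have := h.tT2 (h.S0_T hx)
      have e : t⁻¹ * (t * x * t⁻¹) * t = x := by group
      rwa [e] at this
    refine mem_S0.2 ⟨hxT.1, fun j => ?_⟩
    by_cases hj : j = l
    · subst hj
      exact h.T_l hxT
    · have h1 := h.tvj hj
      have h2 : t⁻¹ * v j = v j * t⁻¹ := ((show Commute t (v j) from h1).inv_left).eq
      calc x * v j = t⁻¹ * (t * x * t⁻¹) * (t * v j) := by group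
        _ = t⁻¹ * ((t * x * t⁻¹) * v j) * t := by rw [h1]; group
        _ = (t⁻¹ * v j) * (t * x * t⁻¹) * t := by rw [(mem_S0.1 hx).2 j]; group
        _ = v j * x := by rw [h2]; group

theorem S_S0 : (S : Subgroup G) ≤ normalizer (S0 (S : Subgroup G) v : Set G) := by
  refine norm_of fun s hs x hx => mem_S0.2 ⟨mul_mem (mul_mem hs (mem_S0.1 hx).1) (inv_mem hs), fun j => ?_⟩
  obtain ⟨m, -, hm⟩ := h.sd.perm s⁻¹ (inv_mem hs) j
  have h1 := (mem_S0.1 hx).2 m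
  calc s * x * s⁻¹ * v j = s * (x * (s⁻¹ * v j * s⁻¹⁻¹)) * s⁻¹ := by group
    _ = s * (x * v m) * s⁻¹ := by rw [hm]
    _ = s * (v m * x) * s⁻¹ := by rw [h1]
    _ = s * ((s⁻¹ * v j * s⁻¹⁻¹) * x) * s⁻¹ := by rw [hm]
    _ = v j * (s * x * s⁻¹) := by group

theorem Z0_zq {z : G} (hz : z ∈ zc (S0 (S : Subgroup G) v)) : z ∈ zc Q := by
  have h1 := mem_zc.1 hz
  exact h.sd.mem_zq (fun q hq => h1.2.1 q (h.Q_S0 hq)) (by rw [← pow_two]; exact h1.2.2)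

theorem Z0_Yt {z : G} (hz : z ∈ zc (S0 (S : Subgroup G) v)) : z ∈ Yt Q t := by
  refine h.mem_Yt_of (h.Z0_zq hz) fun a ha => (mem_zc.1 hz).2.1 a (mem_S0.2 ⟨h.sd.KS l ha, fun j => ?_⟩)
  by_cases hj : j = l
  · subst hj
    exact Fr.KK_comm ha
  · exact h.sd.fr.Qc l j hj _ (h.sd.vV l) (h.sd.v1 l) a (h.sd.fr.KK_le_q (h.sd.vV l) (h.sd.v1 l) ha) _ (h.sd.vV j)

theorem v_Z0 (j : ι) : v j ∈ zc (S0 (S : Subgroup G) v) :=
  mem_zc.2 ⟨h.Q_S0 (mem_zc.1 (h.sd.v_zq j)).1, fun x hx => (mem_S0.1 hx).2 j, by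
    rw [pow_two]; exact h.sd.fr.sq j _ (h.sd.vV j)⟩

theorem d_zq : v l * y ∈ zc Q := mul_mem (h.sd.v_zq l) h.hy

theorem d_D0 : v l * y ∈ D0 (S : Subgroup G) V v :=
  mem_D0.2 ⟨mem_zc.2 ⟨h.Q_S0 (mem_zc.1 h.d_zq).1, fun x hx => h.T_d (h.S0_T hx), by
    rw [pow_two]; exact h.sd.zq_sq h.d_zq⟩, h.dX⟩

theorem N_Z0 {n z : G} (hn : n ∈ normalizer (S0 (S : Subgroup G) v : Set G))
    (hz : z ∈ zc (S0 (S : Subgroup G) v)) : n * z * n⁻¹ ∈ zc (S0 (S : Subgroup G) v) :=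
  (mem_normalizer_iff.1 (normalizer_le_normalizer_zc _ hn) z).1 hz

theorem N_Z0' {n z : G} (hn : n ∈ normalizer (S0 (S : Subgroup G) v : Set G))
    (hz : z ∈ zc (S0 (S : Subgroup G) v)) : n⁻¹ * z * n ∈ zc (S0 (S : Subgroup G) v) := by
  have := h.N_Z0 (inv_mem hn) hz
  rwa [inv_inv] at this

/-- **(6)**: the transposition `s = (l m)` of `S` -/
theorem exists_s₀ : ∃ s ∈ (S : Subgroup G), ∃ m, m ≠ l ∧ s * v l * s⁻¹ = v m ∧
    ∀ z ∈ zc (S0 (S : Subgroup G) v), s * z * s⁻¹ = z ∨ s * z * s⁻¹ = v m * v l * z := by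
  have hz2 : IsPGroup 2 (zpowers t) := (o2_isPGroup (cz (v i * y))).to_le ((zpowers_le).2 h.tq)
  obtain ⟨n, hn, hnt⟩ := exists_conj_le S h.S_S0 hz2 ((zpowers_le).2 h.t_S0)
  have hs₀ := hnt t (mem_zpowers t)
  obtain ⟨s₀, es₀⟩ : ∃ s₀, s₀ = n * t * n⁻¹ := ⟨_, rfl⟩
  rw [← es₀] at hs₀
  have hact : ∀ z ∈ zc (S0 (S : Subgroup G) v),
      s₀ * z * s₀⁻¹ = z ∨ s₀ * z * s₀⁻¹ = n * (v i * y) * n⁻¹ * z := by
    intro z hz
    rcases h.Yt_act (h.Z0_Yt (h.N_Z0' hn hz)) with h1 | h1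
    · left
      calc s₀ * z * s₀⁻¹ = n * (t * (n⁻¹ * z * n) * t⁻¹) * n⁻¹ := by rw [es₀]; group
        _ = z := by rw [h1]; group
    · right
      calc s₀ * z * s₀⁻¹ = n * (t * (n⁻¹ * z * n) * t⁻¹) * n⁻¹ := by rw [es₀]; group
        _ = n * (v i * y) * n⁻¹ * z := by rw [h1]; group
  obtain ⟨j, hj⟩ : ∃ j, s₀ * v j ≠ v j * s₀ := by
    by_contra hcon
    push Not at hcon
    have h1 : s₀ ∈ S0 (S : Subgroup G) v := mem_S0.2 ⟨hs₀, hcon⟩
    have h2 := (mem_zc.1 (h.N_Z0 hn (h.v_Z0 l))).2.1 s₀ h1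
    have h3 : t * v l * t⁻¹ = v l := by
      calc t * v l * t⁻¹ = n⁻¹ * (s₀ * (n * v l * n⁻¹)) * (n * t⁻¹) := by rw [es₀]; group
        _ = n⁻¹ * (n * v l * n⁻¹ * s₀) * (n * t⁻¹) := by rw [h2]
        _ = v l := by rw [es₀]; group
    rw [h.tl'] at h3
    have h4 := mul_eq_right.1 h3
    have h5 : v i = y := by
      have := eq_inv_of_mul_eq_one_left h4
      rwa [inv_eq_of_mul_eq_one_left (h.sd.zq_sq h.hy)] at this
    exact h.y_notV (h5 ▸ h.sd.vV i)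
  obtain ⟨j', -, hj'⟩ := h.sd.perm s₀ hs₀ j
  have hjj : j' ≠ j := by
    rintro rfl
    exact hj (comm_of_conj hj')
  have hc : n * (v i * y) * n⁻¹ = v j' * v j := by
    rcases hact (v j) (h.v_Z0 j) with h1 | h1
    · exact absurd (comm_of_conj h1) hj
    · rw [hj'] at h1
      calc n * (v i * y) * n⁻¹ = n * (v i * y) * n⁻¹ * (v j * v j) := by
            rw [h.sd.fr.sq j _ (h.sd.vV j), mul_one]
        _ = (n * (v i * y) * n⁻¹ * v j) * v j := by group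
        _ = v j' * v j := by rw [← h1]
  obtain ⟨x, hx, hxj⟩ := h.sd.tr j l
  obtain ⟨m, -, hm⟩ := h.sd.perm x hx j'
  refine ⟨x * s₀ * x⁻¹, mul_mem (mul_mem hx hs₀) (inv_mem hx), m, ?_, ?_, fun z hz => ?_⟩
  · rintro rfl
    apply hjj
    apply h.sd.v_inj
    calc v j' = x⁻¹ * (x * v j' * x⁻¹) * x := by group
      _ = x⁻¹ * (x * v j * x⁻¹) * x := by rw [hm, hxj]
      _ = v j := by group
  · calc x * s₀ * x⁻¹ * v l * (x * s₀ * x⁻¹)⁻¹ = x * (s₀ * (x⁻¹ * v l * x) * s₀⁻¹) * x⁻¹ := by group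
      _ = x * (s₀ * (x⁻¹ * (x * v j * x⁻¹) * x) * s₀⁻¹) * x⁻¹ := by rw [hxj]
      _ = x * (s₀ * v j * s₀⁻¹) * x⁻¹ := by group
      _ = v m := by rw [hj', hm]
  · have hz' := h.N_Z0' (h.S_S0 hx) hz
    rcases hact _ hz' with h1 | h1
    · left
      calc x * s₀ * x⁻¹ * z * (x * s₀ * x⁻¹)⁻¹ = x * (s₀ * (x⁻¹ * z * x) * s₀⁻¹) * x⁻¹ := by group
        _ = z := by rw [h1]; group
    · right
      calc x * s₀ * x⁻¹ * z * (x * s₀ * x⁻¹)⁻¹ = x * (s₀ * (x⁻¹ * z * x) * s₀⁻¹) * x⁻¹ := by group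
        _ = (x * v j' * x⁻¹) * (x * v j * x⁻¹) * z := by rw [h1, hc]; group
        _ = v m * v l * z := by rw [hm, hxj]

/-- the transposition `s = (l i)` of `S` -/
theorem exists_s : ∃ s ∈ (S : Subgroup G), s * v l * s⁻¹ = v i ∧ s * v i * s⁻¹ = v l ∧
    ∀ z ∈ zc (S0 (S : Subgroup G) v), s * z * s⁻¹ = z ∨ s * z * s⁻¹ = v i * v l * z := by
  obtain ⟨s, hs, m, hml, hsl, hact⟩ := h.exists_s₀
  have hmi : m = i := by
    by_contra hmi
    have h1 : s * v i * s⁻¹ = v i := by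
      rcases hact (v i) (h.v_Z0 i) with h1 | h1
      · exact h1
      exfalso
      obtain ⟨i', -, hi'⟩ := h.sd.perm s hs i
      rw [hi'] at h1
      by_cases hil : i' = l
      · subst hil
        have h2 : v m * v i = 1 := by
          have h3 : v i' * (v m * v i) = v i' := by
            calc v i' * (v m * v i) = (v i' * v m) * v i := by group
              _ = v m * v i' * v i := by rw [h.sd.fr.comm i' m _ (h.sd.vV i') _ (h.sd.vV m)]
              _ = v i' := h1.symm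
          exact mul_eq_left.1 h3
        have h4 := eq_inv_of_mul_eq_one_left h2
        rw [inv_eq_of_mul_eq_one_left (h.sd.fr.sq i _ (h.sd.vV i))] at h4
        exact hmi (h.sd.v_inj h4)
      · apply h.sd.v_notCX l
        have h2 : v l = (v m)⁻¹ * (v m * v l * v i) * (v i)⁻¹ := by group
        rw [h2, ← h1]
        exact mul_mem (mul_mem (inv_mem (h.sd.v_CX hml)) (h.sd.v_CX hil))
          (inv_mem (h.sd.v_CX (Ne.symm h.li)))
    have h2 := h.T_l ⟨hs, mem_cent.2 (comm_of_conj h1)⟩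
    rw [conj_of_comm h2] at hsl
    exact hml (h.sd.v_inj hsl.symm)
  subst hmi
  refine ⟨s, hs, hsl, ?_, hact⟩
  rcases hact (v m) (h.v_Z0 m) with h1 | h1
  · exfalso
    have h2 : v l = v m := by
      calc v l = s⁻¹ * (s * v l * s⁻¹) * s := by group
        _ = s⁻¹ * (s * v m * s⁻¹) * s := by rw [hsl, h1]
        _ = v m := by group
    exact h.li (h.sd.v_inj h2)
  · rw [h1, mul_assoc, h.sd.fr.comm l m _ (h.sd.vV l) _ (h.sd.vV m), ← mul_assoc,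
      h.sd.fr.sq m _ (h.sd.vV m), one_mul]

/-- the group of the `n ∈ N_G(S⁰)` with `[Ω₁Z(S⁰), n] ≤ D⁰`, `[D⁰, n] = 1` -/
def U0 {ι : Type} (S : Subgroup G) (V : ι → Subgroup G) (v : ι → G) : Subgroup G where
  carrier := {n | n ∈ normalizer (S0 S v : Set G) ∧ (∀ z ∈ D0 S V v, n * z * n⁻¹ = z) ∧
    ∀ z ∈ zc (S0 S v), n * z * n⁻¹ * z⁻¹ ∈ D0 S V v}
  one_mem' := ⟨one_mem _, fun z _ => by group, fun z _ => by
    have e : (1 : G) * z * 1⁻¹ * z⁻¹ = 1 := by group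
    rw [e]; exact one_mem _⟩
  mul_mem' := by
    rintro a b ⟨ha, ha1, ha2⟩ ⟨hb, hb1, hb2⟩
    refine ⟨mul_mem ha hb, fun z hz => ?_, fun z hz => ?_⟩
    · calc a * b * z * (a * b)⁻¹ = a * (b * z * b⁻¹) * a⁻¹ := by group
        _ = z := by rw [hb1 z hz, ha1 z hz]
    · have e : a * b * z * (a * b)⁻¹ * z⁻¹ = (a * (b * z * b⁻¹ * z⁻¹) * a⁻¹) * (a * z * a⁻¹ * z⁻¹) := by group
      rw [e, ha1 _ (hb2 z hz)]
      exact mul_mem (hb2 z hz) (ha2 z hz)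
  inv_mem' := by
    rintro a ⟨ha, ha1, ha2⟩
    have h1 : ∀ z ∈ D0 S V v, a⁻¹ * z * a⁻¹⁻¹ = z := fun z hz => by
      calc a⁻¹ * z * a⁻¹⁻¹ = a⁻¹ * (a * z * a⁻¹) * a := by rw [ha1 z hz]; group
        _ = z := by group
    refine ⟨inv_mem ha, h1, fun z hz => ?_⟩
    have h2 := h1 _ (ha2 z hz)
    have e : a⁻¹ * z * a⁻¹⁻¹ * z⁻¹ = (a⁻¹ * (a * z * a⁻¹ * z⁻¹) * a⁻¹⁻¹)⁻¹ := by group
    rw [e, h2]
    exact inv_mem (ha2 z hz)

omit [Finite G] h in
theorem mem_U0 {ι : Type} {S : Subgroup G} {V : ι → Subgroup G} {v : ι → G} {n : G} :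
    n ∈ U0 S V v ↔ n ∈ normalizer (S0 S v : Set G) ∧ (∀ z ∈ D0 S V v, n * z * n⁻¹ = z) ∧
      ∀ z ∈ zc (S0 S v), n * z * n⁻¹ * z⁻¹ ∈ D0 S V v := Iff.rfl

theorem S_D0 {s z : G} (hs : s ∈ (S : Subgroup G)) (hz : z ∈ D0 (S : Subgroup G) V v) :
    s * z * s⁻¹ ∈ D0 (S : Subgroup G) V v :=
  mem_D0.2 ⟨h.N_Z0 (h.S_S0 hs) (mem_D0.1 hz).1, fun j => h.sd.CX_conj hs (mem_D0.1 hz).2 j⟩

theorem S_U0 {s n : G} (hs : s ∈ (S : Subgroup G)) (hn : n ∈ U0 (S : Subgroup G) V v) :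
    s * n * s⁻¹ ∈ U0 (S : Subgroup G) V v := by
  obtain ⟨h1, h2, h3⟩ := mem_U0.1 hn
  refine mem_U0.2 ⟨mul_mem (mul_mem (h.S_S0 hs) h1) (inv_mem (h.S_S0 hs)), fun z hz => ?_, fun z hz => ?_⟩
  · have h4 := h2 _ (h.S_D0 (inv_mem hs) hz)
    rw [inv_inv] at h4
    calc s * n * s⁻¹ * z * (s * n * s⁻¹)⁻¹ = s * (n * (s⁻¹ * z * s) * n⁻¹) * s⁻¹ := by group
      _ = z := by rw [h4]; group
  · have h4 := h.S_D0 hs (h3 _ (h.N_Z0' (h.S_S0 hs) hz))
    have e : s * n * s⁻¹ * z * (s * n * s⁻¹)⁻¹ * z⁻¹ =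
        s * (n * (s⁻¹ * z * s) * n⁻¹ * (s⁻¹ * z * s)⁻¹) * s⁻¹ := by group
    rw [e]
    exact h4

/-- a 2-subgroup of `U⁰` is `U⁰`-conjugate to a subgroup of `S` -/
theorem exists_u {X : Subgroup G} (hX : IsPGroup 2 X) (hXU : X ≤ U0 (S : Subgroup G) V v) :
    ∃ w ∈ U0 (S : Subgroup G) V v, ∀ x ∈ X, w * x * w⁻¹ ∈ (S : Subgroup G) := by
  let K : Subgroup G :=
    { carrier := {x | ∃ a ∈ (S : Subgroup G), ∃ b ∈ U0 (S : Subgroup G) V v, x = a * b}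
      one_mem' := ⟨1, one_mem _, 1, one_mem _, by group⟩
      mul_mem' := by
        rintro _ _ ⟨a, ha, b, hb, rfl⟩ ⟨a', ha', b', hb', rfl⟩
        refine ⟨a * a', mul_mem ha ha', (a'⁻¹ * b * a') * b', mul_mem ?_ hb', by group⟩
        have := h.S_U0 (inv_mem ha') hb
        rwa [inv_inv] at this
      inv_mem' := by
        rintro _ ⟨a, ha, b, hb, rfl⟩
        exact ⟨a⁻¹, inv_mem ha, a * b⁻¹ * a⁻¹, h.S_U0 ha (inv_mem hb), by group⟩ }
  have hSK : (S : Subgroup G) ≤ K := fun a ha => ⟨a, ha, 1, one_mem _, by group⟩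
  have hXK : X ≤ K := fun b hb => ⟨1, one_mem _, b, hXU hb, by group⟩
  obtain ⟨_, ⟨a, ha, b, hb, rfl⟩, h1⟩ := exists_conj_le S hSK hX hXK
  refine ⟨b, hb, fun x hx => ?_⟩
  have h2 := mul_mem (mul_mem (inv_mem ha) (h1 x hx)) ha
  have e : a⁻¹ * (a * b * x * (a * b)⁻¹) * a = b * x * b⁻¹ := by group
  rwa [e] at h2

/-- **The contradiction.** -/
theorem false : False := by
  obtain ⟨s, hs, hsl, hsi, hact⟩ := h.exists_s
  have hd := h.d_D0
  have hdz := (mem_D0.1 hd).1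
  -- `s` centralises `D⁰`
  have hsD : ∀ z ∈ D0 (S : Subgroup G) V v, s * z * s⁻¹ = z := by
    intro z hz
    rcases hact z (mem_D0.1 hz).1 with h1 | h1
    · exact h1
    exfalso
    have h2 := (mem_D0.1 (h.S_D0 hs hz)).2 i
    rw [h1] at h2
    apply h.sd.v_notCX i
    have h3 : v i = (v i * v l * z) * z⁻¹ * (v l)⁻¹ := by group
    rw [h3]
    exact mul_mem (mul_mem h2 (inv_mem ((mem_D0.1 hz).2 i))) (inv_mem (h.sd.v_CX h.li))
  have hll := h.sd.fr.sq l _ (h.sd.vV l)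
  have hii := h.sd.fr.sq i _ (h.sd.vV i)
  have hc : v i * y = v i * v l * (v l * y) := by
    calc v i * y = v i * (v l * v l) * y := by rw [hll, mul_one]
      _ = v i * v l * (v l * y) := by group
  have hsc : s * (v i * y) * s⁻¹ = v i * y := by
    calc s * (v i * y) * s⁻¹ = (s * v i * s⁻¹) * (s * v l * s⁻¹) * (s * (v l * y) * s⁻¹) := by rw [hc]; group
      _ = v l * v i * (v l * y) := by rw [hsi, hsl, hsD _ hd]
      _ = v i * y := by rw [h.sd.fr.comm l i _ (h.sd.vV l) _ (h.sd.vV i), ← hc]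
  have hcl : v i * (v i * y * v l) = v l * y := by
    rw [h.c_eq, ← mul_assoc, hii, one_mul]
  have htvv : t * (v i * v l) * t⁻¹ = v l * y := by
    calc t * (v i * v l) * t⁻¹ = (t * v i * t⁻¹) * (t * v l * t⁻¹) := by group
      _ = v l * y := by rw [conj_of_comm h.t_v, h.tl', hcl]
  -- `s' = t * s * t⁻¹`
  obtain ⟨s', es'⟩ : ∃ s', s' = t * s * t⁻¹ := ⟨_, rfl⟩
  have hZ0 : ∀ z ∈ zc (S0 (S : Subgroup G) v), s' * z * s'⁻¹ = z ∨ s' * z * s'⁻¹ = v l * y * z := by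
    intro z hz
    have hz' := h.N_Z0' h.t_S0 hz
    rcases hact _ hz' with h1 | h1
    · left
      calc s' * z * s'⁻¹ = t * (s * (t⁻¹ * z * t) * s⁻¹) * t⁻¹ := by rw [es']; group
        _ = z := by rw [h1]; group
    · right
      calc s' * z * s'⁻¹ = t * (s * (t⁻¹ * z * t) * s⁻¹) * t⁻¹ := by rw [es']; group
        _ = (t * (v i * v l) * t⁻¹) * z := by rw [h1]; group
        _ = v l * y * z := by rw [htvv]
  have hD0' : ∀ z ∈ D0 (S : Subgroup G) V v, s' * z * s'⁻¹ = z := by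
    intro z hz
    have h1 : s * (t⁻¹ * z * t) * s⁻¹ = t⁻¹ * z * t := by
      rcases h.Yt_act' (h.Z0_Yt (mem_D0.1 hz).1) with h2 | h2
      · rw [h2, hsD z hz]
      · rw [h2]
        calc s * (v i * y * z) * s⁻¹ = (s * (v i * y) * s⁻¹) * (s * z * s⁻¹) := by group
          _ = v i * y * z := by rw [hsc, hsD z hz]
    calc s' * z * s'⁻¹ = t * (s * (t⁻¹ * z * t) * s⁻¹) * t⁻¹ := by rw [es']; group
      _ = z := by rw [h1]; group
  have hs'U : s' ∈ U0 (S : Subgroup G) V v := by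
    refine mem_U0.2 ⟨?_, hD0', fun z hz => ?_⟩
    · rw [es']
      exact mul_mem (mul_mem h.t_S0 (h.S_S0 hs)) (inv_mem h.t_S0)
    · rcases hZ0 z hz with h1 | h1
      · rw [h1, mul_inv_cancel]; exact one_mem _
      · rw [h1, mul_inv_cancel_right]; exact hd
  have hs'2 : IsPGroup 2 (zpowers s') := by
    refine (S.isPGroup'.map (MulAut.conj t).toMonoidHom).to_le ((zpowers_le).2 ⟨s, hs, ?_⟩)
    rw [es']
    rfl
  have hs'v : s' * v i * s'⁻¹ = v i * (v l * y) := by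
    calc s' * v i * s'⁻¹ = t * (s * (t⁻¹ * (v i * t)) * s⁻¹) * t⁻¹ := by rw [es']; group
      _ = t * (s * v i * s⁻¹) * t⁻¹ := by rw [← h.t_v]; group
      _ = v i * (v l * y) := by rw [hsi, h.tl', h.c_eq]
  obtain ⟨w, hw, hwX⟩ := h.exists_u hs'2 ((zpowers_le).2 hs'U)
  have hx := hwX s' (mem_zpowers s')
  obtain ⟨-, hw1, hw2⟩ := mem_U0.1 hw
  obtain ⟨-, hv1, hv2⟩ := mem_U0.1 (inv_mem hw)
  -- `w s' w⁻¹` maps `v i` to `v i * d`
  obtain ⟨δ, eδ⟩ : ∃ δ, δ = w⁻¹ * v i * w⁻¹⁻¹ * (v i)⁻¹ := ⟨_, rfl⟩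
  have hδ : δ ∈ D0 (S : Subgroup G) V v := by rw [eδ]; exact hv2 _ (h.v_Z0 i)
  have e1 : w⁻¹ * v i * w = δ * v i := by rw [eδ]; group
  have hdw : w * (v l * y) * w⁻¹ = v l * y := hw1 _ hd
  have hδs : s' * δ * s'⁻¹ = δ := hD0' δ hδ
  have e2 : w * s' * w⁻¹ * v i * (w * s' * w⁻¹)⁻¹ = v i * (v l * y) := by
    calc w * s' * w⁻¹ * v i * (w * s' * w⁻¹)⁻¹ = w * (s' * (w⁻¹ * v i * w) * s'⁻¹) * w⁻¹ := by group
      _ = w * ((s' * δ * s'⁻¹) * (s' * v i * s'⁻¹)) * w⁻¹ := by rw [e1]; group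
      _ = (w * (δ * v i) * w⁻¹) * (w * (v l * y) * w⁻¹) := by rw [hδs, hs'v]; group
      _ = (w * (w⁻¹ * v i * w) * w⁻¹) * (v l * y) := by rw [e1, hdw]
      _ = v i * (v l * y) := by group
  obtain ⟨m, -, hm⟩ := h.sd.perm _ hx i
  rw [e2] at hm
  by_cases hmi : m = i
  · subst hmi
    have h1 : v l * y = 1 := mul_eq_left.1 hm
    have h2 : t * v l * t⁻¹ = v m := by rw [h.tl', h.c_eq, h1, mul_one]
    have h3 : v l = v m := by
      calc v l = t⁻¹ * (t * v l * t⁻¹) * t := by group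
        _ = t⁻¹ * (v m * t) := by rw [h2]; group
        _ = v m := by rw [← h.t_v]; group
    exact h.li (h.sd.v_inj h3)
  · apply h.sd.v_notCX i
    have h1 : v i = (v i * (v l * y)) * (v l * y)⁻¹ := by group
    rw [h1, hm]
    exact mul_mem (h.sd.v_CX hmi) (inv_mem (h.dX i))

end Sl

/-- **(SURV) is impossible.** -/
theorem Sv.false [Finite G] {ι : Type} {S : Sylow 2 G} {Q : Subgroup G} {V : ι → Subgroup G} {v : ι → G}
    {i : ι} {y g₀ : G} (h : Sv S Q V v i y g₀) : False := by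
  obtain ⟨t, h1, h2, h3, h4⟩ := h.exists_t
  obtain ⟨l, hl⟩ := St.exists_sl (t := t) { h with tK := h1, tT := h2, tn := h3, tt := h4 }
  exact hl.false

end Cfsg.Agent.Omega.IId.Surv
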