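import Cfsg.Agent.Omega.IId.Big.SylB

/-!
# CvBig (ii), `q = 2` (bb OMEGA 21130, helper165): the frame with `D`

`V i` (`i ∈ ι`) the natural four-groups, `v i ∈ V i` the fixed point of `N_S(V i)`, `Q = O₂(P)`, `Ω₁Z(Q)` may be
larger than `⨆ V i`.

* `Sd S Q V v` : the frame; `CX V j` : the centraliser of all `W_p`, `p ∈ V j`;
* `Sd.mem_qz_of`, `Sd.zc_le_Q` : (F);
* `Sd.one'` : **LEMMA 1'** : `f ∈ Ω₁Z(Q_{v i})`, `[f, Q] = ⟨w⟩` of order 2 ⇒ `w ∈ CX V j` for all `j ≠ i`;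
* `Sd.kp` : no 2-group `> C_S(v i)` in `C_G(v i)` permutes the `v l`.
-/

set_option autoImplicit false
set_option linter.unusedSectionVars false

namespace Cfsg.Agent.Omega.IId.Surv

open Subgroup Cfsg
open Cfsg.Agent.ZN (o2 zc)
open Cfsg.Agent.MinSimple.VModule (le_o2 le_normalizer_o2 mem_zc o2_isPGroup o2_le)
open Triangle (KK KK_conj KK_le_o2 mem_cent mem_KK mem_zpowers_iff_of_sq cent_conj o2_cent_conj)
open Big (Fr Vo cz qz conj_mem norm_of comm_of_conj conj_of_comm isPGroup_of_sq le_Vo Vo_le cent_of_closure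
  norm_o2 le_o2_of sq_of_closure)
open Big.Syl (YY mem_YY YY_le exists_conj_le)

universe u

variable {G : Type u} [Group G]

/-- The frame with `D`. -/
structure Sd {ι : Type} (S Q : Subgroup G) (V : ι → Subgroup G) (v : ι → G) : Prop where
  fr : Fr (⨆ i, V i) V
  vV : ∀ i, v i ∈ V i
  v1 : ∀ i, v i ≠ 1
  perm : ∀ s ∈ S, ∀ i, ∃ j, (∀ x ∈ V i, s * x * s⁻¹ ∈ V j) ∧ s * v i * s⁻¹ = v j
  tr : ∀ i j, ∃ s ∈ S, s * v i * s⁻¹ = v j
  KS : ∀ i, KK (v i) ≤ S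
  VK : ∀ i j, ∀ p ∈ V i, p ≠ 1 → V j ≤ KK p
  QS : Q ≤ S
  QV : ∀ i, ∀ x ∈ V i, ∀ q ∈ Q, q * x = x * q
  QQ : centralizer (Q : Set G) ≤ Q
  NQ : ∀ N : Subgroup G, IsPGroup 2 N → (∀ i, ∀ x ∈ V i, ∀ n ∈ N, n * x = x * n) →
    (∀ c : G, (∀ i, ∀ x ∈ V i, c * x = x * c) → ∀ n ∈ N, c * n * c⁻¹ ∈ N) → N ≤ Q
  KQ : ∀ i, ∀ p ∈ V i, p ≠ 1 → KK p ≤ normalizer (Q : Set G)
  SQ : S ≤ normalizer (Q : Set G)
  SY : ∀ s ∈ S, (∀ i, ∀ x ∈ V i, s * x = x * s) → ∀ z ∈ zc Q, s * z = z * s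

/-- the centraliser of all `W_p`, `p ∈ V j`, `p ≠ 1` -/
def CX {ι : Type} (V : ι → Subgroup G) (j : ι) : Subgroup G where
  carrier := {z | ∀ p ∈ V j, p ≠ 1 → ∀ g ∈ KK p, g * z = z * g}
  one_mem' := fun p _ _ g _ => by rw [mul_one, one_mul]
  mul_mem' := fun {a b} ha hb p hp hp1 g hg => by
    calc g * (a * b) = (g * a) * b := by group
      _ = a * (g * b) := by rw [ha p hp hp1 g hg]; group
      _ = a * b * g := by rw [hb p hp hp1 g hg]; group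
  inv_mem' := fun {a} ha p hp hp1 g hg => ((show Commute g a from ha p hp hp1 g hg).inv_right).eq

theorem mem_CX {ι : Type} {V : ι → Subgroup G} {j : ι} {z : G} :
    z ∈ CX V j ↔ ∀ p ∈ V j, p ≠ 1 → ∀ g ∈ KK p, g * z = z * g := Iff.rfl

namespace Sd

variable {ι : Type} {S Q : Subgroup G} {V : ι → Subgroup G} {v : ι → G} (h : Sd S Q V v)
include h

theorem cent_sup {g x : G} (hg : ∀ i, ∀ x ∈ V i, g * x = x * g) (hx : x ∈ ⨆ i, V i) : g * x = x * g := by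
  have h1 : (⨆ i, V i) ≤ centralizer ({g} : Set G) := iSup_le fun i x hx => mem_cent.2 (hg i x hx).symm
  exact (mem_cent.1 (h1 hx)).symm

theorem sup_comm {x y : G} (hx : x ∈ ⨆ i, V i) (hy : y ∈ ⨆ i, V i) : x * y = y * x := by
  refine h.cent_sup (fun i z hz => ?_) hy
  exact (h.cent_sup (g := z) (fun j w hw => h.fr.comm i j z hz w hw) hx).symm

theorem sup_sq {x : G} (hx : x ∈ ⨆ i, V i) : x * x = 1 := by
  rw [iSup_eq_closure] at hx
  refine sq_of_closure ?_ ?_ hx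
  · intro y hy
    obtain ⟨i, hi⟩ := Set.mem_iUnion.1 hy
    exact h.fr.sq i y hi
  · intro a ha b hb
    rw [← iSup_eq_closure] at ha hb
    exact h.sup_comm ha hb

theorem Q_sup {q x : G} (hq : q ∈ Q) (hx : x ∈ ⨆ i, V i) : q * x = x * q :=
  h.cent_sup (fun i x hx => h.QV i x hx q hq) hx


variable [Finite G]

/-! #### (F) -/

theorem V_le_Q (i : ι) : V i ≤ Q := by
  refine h.NQ _ (isPGroup_of_sq fun x hx => h.fr.sq i x hx) (fun j x hx n hn => h.fr.comm i j n hn x hx)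
    fun c hc n hn => ?_
  rw [conj_of_comm (hc i n hn)]
  exact hn

theorem sup_le_Q : (⨆ i, V i) ≤ Q := iSup_le h.V_le_Q

omit [Finite G] in
theorem V_le_zc {i j : ι} (hij : j ≠ i) {p : G} (hp : p ∈ V i) (hp1 : p ≠ 1) : V j ≤ zc (qz p) := fun x hx =>
  mem_zc.2 ⟨h.fr.VQ i j p hp hp1 hx, fun q hq => h.fr.Qc i j hij p hp hp1 q hq x hx, by
    rw [pow_two]; exact h.fr.sq j x hx⟩

/-- an element of `C_G(p)` normalises `Ω₁Z(Q_p)` -/
theorem zc_conj {p c x : G} (hc : c * p = p * c) (hx : x ∈ zc (qz p)) : c * x * c⁻¹ ∈ zc (qz p) :=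
  conj_mem ((le_normalizer_o2 (cz p)).trans (MinSimple.VModule.normalizer_le_normalizer_zc _)) (mem_cent.2 hc) hx

omit [Finite G] in
theorem zc_V {i : ι} {p : G} (hp : p ∈ V i) (hp1 : p ≠ 1) {y : G} (hy : y ∈ zc (qz p)) (j : ι) {x : G}
    (hx : x ∈ V j) : y * x = x * y := ((mem_zc.1 hy).2.1 x (h.fr.VQ i j p hp hp1 hx)).symm

theorem zc_le_Q {i : ι} {p : G} (hp : p ∈ V i) (hp1 : p ≠ 1) : zc (qz p) ≤ Q := by
  refine h.NQ _ ((o2_isPGroup _).to_le (MinSimple.VModule.zc_le _)) (fun j x hx n hn => h.zc_V hp hp1 hn j hx)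
    fun c hc n hn => h.zc_conj (hc i p hp) hn

theorem qz_inf_le {i : ι} {p : G} (hp : p ∈ V i) {r : G} (hr : r ∈ qz p)
    (hrV : ∀ j, ∀ x ∈ V j, r * x = x * r) : r ∈ Q := by
  have h1 : qz p ⊓ centralizer ((⨆ i, V i : Subgroup G) : Set G) ≤ Q := by
    refine h.NQ _ ((o2_isPGroup _).to_le inf_le_left) (fun j x hx n hn => ?_) fun c hc n hn => ?_
    · exact (mem_centralizer_iff.1 hn.2 x ((le_iSup V j) hx)).symm
    · refine ⟨conj_mem (le_normalizer_o2 _) (mem_cent.2 (hc i p hp)) hn.1, mem_centralizer_iff.2 fun x hx => ?_⟩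
      have h2 := mem_centralizer_iff.1 hn.2 x hx
      have h3 : c * x = x * c := h.cent_sup hc hx
      have h4 : c⁻¹ * x = x * c⁻¹ := ((show Commute c x from h3).inv_left).eq
      calc x * (c * n * c⁻¹) = (x * c) * n * c⁻¹ := by group
        _ = c * (x * n) * c⁻¹ := by rw [← h3]; group
        _ = c * n * (x * c⁻¹) := by rw [h2]; group
        _ = c * n * c⁻¹ * x := by rw [← h4]; group
  exact h1 ⟨hr, mem_centralizer_iff.2 fun x hx => (h.cent_sup hrV hx).symm⟩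

/-- `U_r ∩ C(U_p) ≤ Q_p`, `p ∈ V j`, `r ∈ V i`, `i ≠ j` -/
theorem mem_qz_of {i j : ι} (hij : i ≠ j) {r p y : G} (hr : r ∈ V i) (hr1 : r ≠ 1) (hp : p ∈ V j)
    (hp1 : p ≠ 1) (hy : y ∈ zc (qz r)) (hyp : ∀ c ∈ zc (qz p), y * c = c * y) : y ∈ qz p := by
  set N : Subgroup G := cz p ⊓ centralizer (zc (qz p) : Set G) with hN
  set A : Subgroup G := zc (qz r) ⊓ centralizer (zc (qz p) : Set G) with hA
  have hrp : r ∈ zc (qz p) := h.V_le_zc hij hp hp1 hr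
  have hAN : A ≤ N := fun a ha => ⟨mem_cent.2 (h.zc_V hr hr1 ha.1 j hp), ha.2⟩
  have key : A ≤ qz p := by
    refine le_o2_of ((o2_isPGroup _).to_le (inf_le_left.trans (MinSimple.VModule.zc_le _))) hAN ?_ inf_le_left ?_
    · apply norm_of
      rintro n ⟨-, hn2⟩ a ⟨ha1, ha2⟩
      refine ⟨h.zc_conj (mem_centralizer_iff.1 hn2 r hrp).symm ha1, ?_⟩
      exact (centralizer (zc (qz p) : Set G)).mul_mem (mul_mem hn2 ha2)
        ((centralizer (zc (qz p) : Set G)).inv_mem hn2)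
    · apply norm_of
      rintro c hc n ⟨hn1, hn2⟩
      refine ⟨mul_mem (mul_mem hc hn1) ((cz p).inv_mem hc), mem_centralizer_iff.2 fun x hx => ?_⟩
      have hx' : c⁻¹ * x * c ∈ zc (qz p) := by
        have := h.zc_conj (c := c⁻¹) (mem_cent.1 ((cz p).inv_mem hc)) hx
        rwa [inv_inv] at this
      have h1 := mem_centralizer_iff.1 hn2 _ hx'
      calc x * (c * n * c⁻¹) = c * ((c⁻¹ * x * c) * n) * c⁻¹ := by group
        _ = c * n * c⁻¹ * x := by rw [h1]; group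
  exact key ⟨hy, mem_centralizer_iff.2 fun c hc => (hyp c hc).symm⟩


omit [Finite G] in
theorem fixV [Finite G] {i : ι} {p b r : G} (hp : p ∈ V i) (hp1 : p ≠ 1) (hb : b ∈ V i) (hb1 : b ≠ 1) (hpb : p ≠ b)
    (hrp : r * p = p * r) (hrb : r * b = b * r) {x : G} (hx : x ∈ V i) : r * x = x * r := by
  rcases h.fr.cases4 hp hb hp1 hb1 hpb hx with rfl | rfl | rfl | rfl
  · simp
  · exact hrp
  · exact hrb
  · calc r * (p * b) = (r * p) * b := by group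
      _ = p * (r * b) := by rw [hrp]; group
      _ = p * b * r := by rw [hrb]; group

theorem mem_Q_of {i : ι} {p b r : G} (hp : p ∈ V i) (hp1 : p ≠ 1) (hb : b ∈ V i) (hb1 : b ≠ 1) (hpb : p ≠ b)
    (hr : r ∈ qz p) (hrb : r * b = b * r) : r ∈ Q := by
  refine h.qz_inf_le hp hr fun j x hx => ?_
  by_cases hj : j = i
  · subst hj
    exact h.fixV hp hp1 hb hb1 hpb (mem_cent.1 (o2_le _ hr)) hrb hx
  · exact h.fr.Qc i j hj p hp hp1 r hr x hx

/-- `w ∈ W_p` moves `b ∈ V i`: `Q_p ⊆ Q ∪ w Q`. -/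
theorem split {i : ι} {p b w : G} (hp : p ∈ V i) (hp1 : p ≠ 1) (hb : b ∈ V i) (hb1 : b ≠ 1) (hpb : p ≠ b)
    (hw : w ∈ KK p) (hwb : w * b * w⁻¹ = p * b) {r : G} (hr : r ∈ qz p) : r ∈ Q ∨ w⁻¹ * r ∈ Q := by
  have hwq := h.fr.KK_le_q hp hp1 hw
  have hpp := h.fr.sq i p hp
  have hpi : p⁻¹ = p := inv_eq_of_mul_eq_one_left hpp
  have h2 := (mem_KK.1 (h.VK i i p hp hp1 hb)).2 r hr
  rcases (mem_zpowers_iff_of_sq hpp).1 h2 with h3 | h3
  · left
    refine h.mem_Q_of hp hp1 hb hb1 hpb hr ?_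
    calc r * b = (b * r * b⁻¹ * r⁻¹)⁻¹ * (b * r) := by group
      _ = b * r := by rw [h3]; group
  · right
    refine h.mem_Q_of hp hp1 hb hb1 hpb (mul_mem (inv_mem hwq) hr) ?_
    have h4 : r * b * r⁻¹ = p * b := by
      calc r * b * r⁻¹ = (b * r * b⁻¹ * r⁻¹)⁻¹ * b := by group
        _ = p * b := by rw [h3, hpi]
    apply comm_of_conj
    calc w⁻¹ * r * b * (w⁻¹ * r)⁻¹ = w⁻¹ * (r * b * r⁻¹) * w := by group
      _ = w⁻¹ * (w * b * w⁻¹) * w := by rw [h4, hwb]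
      _ = b := by group

/-- `Ω₁Z(Q) ≤ Q_p` -/
theorem zz_mem_qz {i : ι} {p : G} (hp : p ∈ V i) (hp1 : p ≠ 1) {z : G} (hzz : z * z = 1)
    (hz : ∀ q ∈ Q, q * z = z * q) : z ∈ qz p := by
  obtain ⟨b, hb, hb1, hpb⟩ := h.fr.exists_other (i := i) p
  obtain ⟨w, hw, hwb⟩ := h.fr.move hp hb hp1 hb1 hpb
  have hzQ : z ∈ Q := h.QQ (mem_centralizer_iff.2 hz)
  have hwq := h.fr.KK_le_q hp hp1 hw
  have hwn := h.KQ i p hp hp1 hw
  have hpp := h.fr.sq i p hp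
  obtain ⟨z', hz'⟩ : ∃ z', z' = w * z * w⁻¹ := ⟨_, rfl⟩
  have hz'Q : z' ∈ Q := by rw [hz']; exact (mem_normalizer_iff.1 hwn z).1 hzQ
  have hz'c : ∀ q ∈ Q, q * z' = z' * q := by
    intro q hq
    have h1 : w⁻¹ * q * w ∈ Q := by
      have := (mem_normalizer_iff.1 (inv_mem hwn) q).1 hq
      rwa [inv_inv] at this
    have h2 := hz _ h1
    calc q * z' = w * ((w⁻¹ * q * w) * z) * w⁻¹ := by rw [hz']; group
      _ = z' * q := by rw [h2, hz']; group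
  have hzz' : z' * z' = 1 := by
    calc z' * z' = w * (z * z) * w⁻¹ := by rw [hz']; group
      _ = 1 := by rw [hzz]; group
  have hwp : w * p * w⁻¹ = p := conj_of_comm (Fr.KK_comm hw)
  have hww : w * w ∈ Q := by
    refine h.mem_Q_of hp hp1 hb hb1 hpb (mul_mem hwq hwq) (comm_of_conj ?_)
    calc w * w * b * (w * w)⁻¹ = w * (w * b * w⁻¹) * w⁻¹ := by group
      _ = w * (p * b) * w⁻¹ := by rw [hwb]
      _ = (w * p * w⁻¹) * (w * b * w⁻¹) := by group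
      _ = (p * p) * b := by rw [hwp, hwb]; group
      _ = b := by rw [hpp, one_mul]
  have hcz : z' * z = z * z' := hz z' hz'Q
  have hcQ : ∀ q ∈ Q, q * (z' * z) = z' * z * q := by
    intro q hq
    calc q * (z' * z) = (q * z') * z := by group
      _ = z' * (q * z) := by rw [hz'c q hq]; group
      _ = z' * z * q := by rw [hz q hq]; group
  have hwc : w * (z' * z) = z' * z * w := by
    apply comm_of_conj
    have h1 : w * w * z * (w * w)⁻¹ = z := conj_of_comm (hz _ hww)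
    calc w * (z' * z) * w⁻¹ = (w * w * z * (w * w)⁻¹) * (w * z * w⁻¹) := by rw [hz']; group
      _ = z * z' := by rw [h1, hz']
      _ = z' * z := hcz.symm
  have hcR : ∀ r ∈ qz p, r * (z' * z) = z' * z * r := by
    intro r hr
    rcases h.split hp hp1 hb hb1 hpb hw hwb hr with h1 | h1
    · exact hcQ r h1
    · calc r * (z' * z) = w * ((w⁻¹ * r) * (z' * z)) := by group
        _ = w * (z' * z) * (w⁻¹ * r) := by rw [hcQ _ h1]; group
        _ = z' * z * r := by rw [hwc]; group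
  apply YY_le (h.fr.c2 i p hp hp1)
  refine mem_YY.2 ⟨mem_cent.2 (h.QV i p hp z hzQ), fun r hr => ?_, fun r hr hr2 => ?_⟩
  · rcases h.split hp hp1 hb hb1 hpb hw hwb hr with h1 | h1
    · have h2 : z * r * z⁻¹ * r⁻¹ = 1 := by rw [← hz r h1]; group
      rw [h2]
      exact one_mem _
    · have h2 : z * r * z⁻¹ * r⁻¹ = z' * z := by
        have h3 := hz _ (inv_mem h1)
        have hzi : z⁻¹ = z := inv_eq_of_mul_eq_one_left hzz
        calc z * r * z⁻¹ * r⁻¹ = z * w * (w⁻¹ * r) * (z⁻¹ * (w⁻¹ * r)⁻¹) * w⁻¹ := by group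
          _ = z * w * (w⁻¹ * r) * ((w⁻¹ * r)⁻¹ * z) * w⁻¹ := by rw [hzi, ← h3]
          _ = z * (w * z * w⁻¹) := by group
          _ = z' * z := by rw [← hz', hcz]
      rw [h2]
      exact mem_centralizer_iff.2 hcR
  · refine conj_of_comm (hz r ?_).symm
    exact h.qz_inf_le hp hr fun j x hx => (mem_centralizer_iff.1 hr2 x (h.fr.VQ i j p hp hp1 hx)).symm


/-! #### The groups `CX V j` -/

theorem v_inj {i j : ι} (hij : v i = v j) : i = j := by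
  by_contra hne
  exact h.v1 i (h.fr.disj hne (h.vV i) (hij ▸ h.vV j))

theorem fix_line {s : G} (hs : s ∈ S) {i : ι} (hsi : s * v i = v i * s) {x : G} (hx : x ∈ V i) :
    s * x * s⁻¹ ∈ V i := by
  obtain ⟨j, hj, hvj⟩ := h.perm s hs i
  rw [conj_of_comm hsi] at hvj
  have := h.v_inj hvj
  subst this
  exact hj x hx

theorem fix_act {s : G} (hs : s ∈ S) {i : ι} (hsi : s * v i = v i * s) {x : G} (hx : x ∈ V i) :
    s * x * s⁻¹ = x ∨ s * x * s⁻¹ = v i * x := by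
  by_cases hx1 : x = 1
  · left
    rw [hx1]
    simp
  by_cases hxv : x = v i
  · left
    rw [hxv]
    exact conj_of_comm hsi
  rcases h.fr.cases4 (h.vV i) hx (h.v1 i) hx1 (Ne.symm hxv) (h.fix_line hs hsi hx) with h1 | h1 | h1 | h1
  · exfalso
    apply hx1
    calc x = s⁻¹ * (s * x * s⁻¹) * s := by group
      _ = 1 := by rw [h1]; group
  · exfalso
    apply hxv
    calc x = s⁻¹ * (s * x * s⁻¹) * s := by group
      _ = s⁻¹ * (v i * s) := by rw [h1]; group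
      _ = v i := by rw [← hsi]; group
  · exact Or.inl h1
  · exact Or.inr h1

theorem V_CX {m j : ι} (hmj : m ≠ j) : V m ≤ CX V j := fun x hx p hp hp1 g hg =>
  h.fr.Qc j m hmj p hp hp1 g (h.fr.KK_le_q hp hp1 hg) x hx

theorem v_CX {m j : ι} (hmj : m ≠ j) : v m ∈ CX V j := h.V_CX hmj (h.vV m)

theorem eq_one_of_CX {j : ι} {x : G} (hx : x ∈ V j) (hc : x ∈ CX V j) : x = 1 := by
  by_contra hx1
  obtain ⟨p, hp, hp1, hxp⟩ := h.fr.exists_other (i := j) x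
  obtain ⟨w, hw, hwx⟩ := h.fr.move hp hx hp1 hx1 (Ne.symm hxp)
  rw [conj_of_comm (hc p hp hp1 w hw)] at hwx
  exact hp1 (mul_eq_right.1 hwx.symm)

theorem v_notCX (j : ι) : v j ∉ CX V j := fun hc => h.v1 j (h.eq_one_of_CX (h.vV j) hc)

theorem CX_conj {s z : G} (hs : s ∈ S) (hz : ∀ j, z ∈ CX V j) (j : ι) : s * z * s⁻¹ ∈ CX V j := by
  intro p hp hp1 g hg
  obtain ⟨l, hl, -⟩ := h.perm s⁻¹ (inv_mem hs) j
  have h1 : s⁻¹ * p * s⁻¹⁻¹ ≠ 1 := fun h0 => hp1 (by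
    calc p = s * (s⁻¹ * p * s⁻¹⁻¹) * s⁻¹ := by group
      _ = 1 := by rw [h0]; group)
  have h2 := hz l _ (hl p hp) h1 _ (KK_conj (h := s⁻¹) hg)
  rw [inv_inv] at h2
  calc g * (s * z * s⁻¹) = s * ((s⁻¹ * g * s) * z) * s⁻¹ := by group
    _ = s * z * s⁻¹ * g := by rw [h2]; group

theorem zq_comm {q z : G} (hz : z ∈ zc Q) (hq : q ∈ Q) : q * z = z * q := (mem_zc.1 hz).2.1 q hq

theorem zq_sq {z : G} (hz : z ∈ zc Q) : z * z = 1 := by
  have := (mem_zc.1 hz).2.2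
  rwa [pow_two] at this

theorem mem_zq {z : G} (hz : ∀ q ∈ Q, q * z = z * q) (hzz : z * z = 1) : z ∈ zc Q :=
  mem_zc.2 ⟨h.QQ (mem_centralizer_iff.2 hz), hz, by rw [pow_two]; exact hzz⟩

theorem V_zq (i : ι) : V i ≤ zc Q := fun x hx => h.mem_zq (h.QV i x hx) (h.fr.sq i x hx)

theorem v_zq (i : ι) : v i ∈ zc Q := h.V_zq i (h.vV i)

theorem zq_mul_comm {x z : G} (hx : x ∈ zc Q) (hz : z ∈ zc Q) : x * z = z * x :=
  h.zq_comm hz (mem_zc.1 hx).1

theorem zq_q {i : ι} {p : G} (hp : p ∈ V i) (hp1 : p ≠ 1) : zc Q ≤ qz p := fun _ hz =>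
  h.zz_mem_qz hp hp1 (h.zq_sq hz) fun _ hq => h.zq_comm hz hq

theorem zq_act {i : ι} {p g z : G} (hp : p ∈ V i) (hp1 : p ≠ 1) (hg : g ∈ KK p) (hz : z ∈ zc Q) :
    g * z * g⁻¹ = z ∨ g * z * g⁻¹ = p * z := h.fr.KK_act hp hg (h.zq_q hp hp1 hz)

/-- an element of `Ω₁Z(Q)` which commutes with `W_p` commutes with `Q_p` -/
theorem comm_qz {j : ι} {p r z : G} (hp : p ∈ V j) (hp1 : p ≠ 1) (hz : z ∈ zc Q)
    (hg : ∀ g ∈ KK p, g * z = z * g) (hr : r ∈ qz p) : r * z = z * r := by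
  obtain ⟨b, hb, hb1, hpb⟩ := h.fr.exists_other (i := j) p
  obtain ⟨w, hw, hwb⟩ := h.fr.move hp hb hp1 hb1 hpb
  rcases h.split hp hp1 hb hb1 hpb hw hwb hr with h1 | h1
  · exact h.zq_comm hz h1
  · calc r * z = w * ((w⁻¹ * r) * z) := by group
      _ = (w * z) * (w⁻¹ * r) := by rw [h.zq_comm hz h1]; group
      _ = z * r := by rw [hg w hw]; group

/-! #### LEMMA 1' -/

/-- **LEMMA 1'.** -/
theorem one' {i : ι} {f w : G} (hf : f ∈ zc (qz (v i))) (hw1 : w ≠ 1)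
    (hQ : ∀ q ∈ Q, q * f * q⁻¹ = f ∨ q * f * q⁻¹ = w * f) (hex : ∃ q ∈ Q, q * f * q⁻¹ = w * f) :
    w ∈ zc Q ∧ ∀ j, j ≠ i → w ∈ CX V j := by
  obtain ⟨q₀, hq₀, hq₀f⟩ := hex
  have hvi := h.vV i
  have hvi1 := h.v1 i
  have hQv : ∀ q ∈ Q, q * v i = v i * q := fun q hq => h.QV i _ hvi q hq
  have hwU : w ∈ zc (qz (v i)) := by
    have h1 : w = (q₀ * f * q₀⁻¹) * f⁻¹ := by rw [hq₀f]; group
    rw [h1]
    exact mul_mem (h.zc_conj (hQv q₀ hq₀) hf) (inv_mem hf)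
  have hww : w * w = 1 := by
    have := (mem_zc.1 hwU).2.2
    rwa [pow_two] at this
  have hwi : w⁻¹ = w := inv_eq_of_mul_eq_one_left hww
  have hwQ : ∀ r ∈ Q, r * w = w * r := by
    intro r hr
    apply comm_of_conj
    have e1 : r * q₀ * f * (r * q₀)⁻¹ = (r * w * r⁻¹) * (r * f * r⁻¹) := by
      calc r * q₀ * f * (r * q₀)⁻¹ = r * (q₀ * f * q₀⁻¹) * r⁻¹ := by group
        _ = (r * w * r⁻¹) * (r * f * r⁻¹) := by rw [hq₀f]; group
    have hne : r * w * r⁻¹ ≠ 1 := fun h0 => hw1 (by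
      calc w = r⁻¹ * (r * w * r⁻¹) * r := by group
        _ = 1 := by rw [h0]; group)
    rcases hQ r hr with h1 | h1 <;> rcases hQ (r * q₀) (mul_mem hr hq₀) with h2 | h2
    · exfalso
      rw [e1, h1] at h2
      exact hne (mul_eq_right.1 h2)
    · rw [e1, h1] at h2
      exact mul_right_cancel h2
    · rw [e1, h1, ← mul_assoc] at h2
      have h3 := mul_eq_right.1 h2
      exact (eq_inv_of_mul_eq_one_left h3).trans hwi
    · exfalso
      rw [e1, h1] at h2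
      exact hne (mul_eq_right.1 h2)
  have hwz := h.mem_zq hwQ hww
  have hyV : ∀ j, ∀ x ∈ V j, f * x = x * f := fun j x hx => h.zc_V hvi hvi1 hf j hx
  refine ⟨hwz, fun j hj p hp hp1 g hg => ?_⟩
  by_contra hcon
  have hgq := h.fr.KK_le_q hp hp1 hg
  have hgp : g * p = p * g := Fr.KK_comm hg
  have hpp := h.fr.sq j p hp
  have hgw : g * w * g⁻¹ = p * w := by
    rcases h.zq_act hp hp1 hg hwz with h1 | h1
    · exact absurd (comm_of_conj h1) hcon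
    · exact h1
  have hpw : p ≠ w := by
    rintro rfl
    exact hcon hgp
  have hyp : f * p = p * f := hyV j p hp
  -- (1)
  have s1 : ∀ c ∈ zc (qz p), f * c = c * f := by
    intro c hc
    have hcQ := h.zc_le_Q hp hp1 hc
    rcases hQ c hcQ with h1 | h1
    · exact (comm_of_conj h1).symm
    · exfalso
      have h2 : w ∈ zc (qz p) := by
        have h3 : w = c * (f * c⁻¹ * f⁻¹) := by
          calc w = (w * f) * f⁻¹ := by group
            _ = c * (f * c⁻¹ * f⁻¹) := by rw [← h1]; group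
        rw [h3]
        exact mul_mem hc (h.zc_conj hyp (inv_mem hc))
      exact hcon ((mem_zc.1 h2).2.1 g hgq)
  -- (2)
  have hfq : f ∈ qz p := h.mem_qz_of hj.symm hvi hvi1 hp hp1 hf s1
  -- (3)
  have hgn := h.KQ j p hp hp1 hg
  have hq₁ : g * q₀ * g⁻¹ ∈ Q := (mem_normalizer_iff.1 hgn q₀).1 hq₀
  have hpq : (g * q₀ * g⁻¹) * p = p * (g * q₀ * g⁻¹) := h.QV j p hp _ hq₁
  have h5 : (g * q₀ * g⁻¹) * f * (g * q₀ * g⁻¹)⁻¹ = p * w * f := by
    rcases h.fr.KK_act hp hg hfq with h1 | h1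
    · calc (g * q₀ * g⁻¹) * f * (g * q₀ * g⁻¹)⁻¹
          = (g * q₀ * g⁻¹) * (g * f * g⁻¹) * (g * q₀ * g⁻¹)⁻¹ := by rw [h1]
        _ = g * (q₀ * f * q₀⁻¹) * g⁻¹ := by group
        _ = (g * w * g⁻¹) * (g * f * g⁻¹) := by rw [hq₀f]; group
        _ = p * w * f := by rw [hgw, h1]
    · have h6 : f = p * (g * f * g⁻¹) := by rw [h1, ← mul_assoc, hpp, one_mul]
      have hpi : (g * q₀ * g⁻¹) * p * (g * q₀ * g⁻¹)⁻¹ = p := conj_of_comm hpq
      have hpw2 : p * w = w * p := (h.zq_mul_comm hwz (h.V_zq j hp)).symm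
      calc (g * q₀ * g⁻¹) * f * (g * q₀ * g⁻¹)⁻¹
          = (g * q₀ * g⁻¹) * (p * (g * f * g⁻¹)) * (g * q₀ * g⁻¹)⁻¹ := by rw [← h6]
        _ = ((g * q₀ * g⁻¹) * p * (g * q₀ * g⁻¹)⁻¹) * (g * (q₀ * f * q₀⁻¹) * g⁻¹) := by group
        _ = p * ((g * w * g⁻¹) * (g * f * g⁻¹)) := by rw [hpi, hq₀f]; group
        _ = p * ((w * p) * (p * f)) := by rw [hgw, h1, hpw2]
        _ = p * w * (p * p) * f := by group
        _ = p * w * f := by rw [hpp, mul_one]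
  rcases hQ _ hq₁ with h6 | h6
  · rw [h5] at h6
    have h8 := mul_eq_right.1 h6
    exact hpw ((eq_inv_of_mul_eq_one_left h8).trans hwi)
  · rw [h5] at h6
    have h8 := mul_right_cancel h6
    exact hp1 (mul_eq_right.1 h8)

end Sd

/-! #### KP -/

/-- the elements which permute the `v l` -/
def LL {ι : Type} (v : ι → G) : Subgroup G where
  carrier := {x | (∀ l, ∃ m, x * v l * x⁻¹ = v m) ∧ ∀ l, ∃ m, x⁻¹ * v l * x = v m}
  one_mem' := ⟨fun l => ⟨l, by group⟩, fun l => ⟨l, by group⟩⟩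
  mul_mem' := by
    rintro a b ⟨ha, ha'⟩ ⟨hb, hb'⟩
    refine ⟨fun l => ?_, fun l => ?_⟩
    · obtain ⟨m, hm⟩ := hb l
      obtain ⟨n, hn⟩ := ha m
      refine ⟨n, ?_⟩
      calc a * b * v l * (a * b)⁻¹ = a * (b * v l * b⁻¹) * a⁻¹ := by group
        _ = v n := by rw [hm, hn]
    · obtain ⟨m, hm⟩ := ha' l
      obtain ⟨n, hn⟩ := hb' m
      refine ⟨n, ?_⟩
      calc (a * b)⁻¹ * v l * (a * b) = b⁻¹ * (a⁻¹ * v l * a) * b := by group
        _ = v n := by rw [hm, hn]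
  inv_mem' := by
    rintro a ⟨ha, ha'⟩
    exact ⟨fun l => by rw [inv_inv]; exact ha' l, fun l => by rw [inv_inv]; exact ha l⟩

theorem mem_LL {ι : Type} {v : ι → G} {x : G} :
    x ∈ LL v ↔ (∀ l, ∃ m, x * v l * x⁻¹ = v m) ∧ ∀ l, ∃ m, x⁻¹ * v l * x = v m := Iff.rfl

theorem Sd.S_LL {ι : Type} {S Q : Subgroup G} {V : ι → Subgroup G} {v : ι → G} (h : Sd S Q V v) :
    S ≤ LL v := by
  intro s hs
  refine mem_LL.2 ⟨fun l => ?_, fun l => ?_⟩
  · obtain ⟨m, -, hm⟩ := h.perm s hs l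
    exact ⟨m, hm⟩
  · obtain ⟨m, -, hm⟩ := h.perm s⁻¹ (inv_mem hs) l
    rw [inv_inv] at hm
    exact ⟨m, hm⟩

/-- **KP**: a 2-group `X ≥ C_S(v i)` in `C_G(v i)` which permutes the `v l` is `C_S(v i)`. -/
theorem Sd.kp [Finite G] {ι : Type} {S : Sylow 2 G} {Q : Subgroup G} {V : ι → Subgroup G} {v : ι → G}
    (h : Sd (S : Subgroup G) Q V v) (i : ι) {X : Subgroup G} (hX : IsPGroup 2 X) (hXc : X ≤ cz (v i))
    (hTX : (S : Subgroup G) ⊓ cz (v i) ≤ X) (hXL : X ≤ LL v) :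
    X ≤ (S : Subgroup G) ⊓ cz (v i) := by
  obtain ⟨m, hm, hmX⟩ := exists_conj_le S h.S_LL hX hXL
  obtain ⟨n, hn⟩ := (mem_LL.1 hm).1 i
  set T : Subgroup G := (S : Subgroup G) ⊓ cz (v i) with hT
  obtain ⟨s, hs, hsn⟩ := h.tr i n
  have h1 : X.map (MulAut.conj m).toMonoidHom ≤ T.map (MulAut.conj s).toMonoidHom := by
    rintro _ ⟨x, hx, rfl⟩
    have hxm : m * x * m⁻¹ ∈ (S : Subgroup G) := hmX x hx
    have hxv : x * v i = v i * x := mem_cent.1 (hXc hx)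
    refine ⟨s⁻¹ * (m * x * m⁻¹) * s, mem_inf.2 ⟨mul_mem (mul_mem (inv_mem hs) hxm) hs, mem_cent.2 ?_⟩, ?_⟩
    · apply comm_of_conj
      have h2 : m * x * m⁻¹ * v n * (m * x * m⁻¹)⁻¹ = v n := by
        rw [← hn]
        calc m * x * m⁻¹ * (m * v i * m⁻¹) * (m * x * m⁻¹)⁻¹ = m * (x * v i * x⁻¹) * m⁻¹ := by group
          _ = m * v i * m⁻¹ := by rw [conj_of_comm hxv]
      calc s⁻¹ * (m * x * m⁻¹) * s * v i * (s⁻¹ * (m * x * m⁻¹) * s)⁻¹
          = s⁻¹ * (m * x * m⁻¹ * (s * v i * s⁻¹) * (m * x * m⁻¹)⁻¹) * s := by group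
        _ = s⁻¹ * v n * s := by rw [hsn, h2]
        _ = v i := by rw [← hsn]; group
    · show s * (s⁻¹ * (m * x * m⁻¹) * s) * s⁻¹ = m * x * m⁻¹
      group
  have h2 : Nat.card X ≤ Nat.card T := by
    have e1 : Nat.card (X.map (MulAut.conj m).toMonoidHom) = Nat.card X :=
      card_map_of_injective (MulAut.conj m).injective
    have e2 : Nat.card (T.map (MulAut.conj s).toMonoidHom) = Nat.card T :=
      card_map_of_injective (MulAut.conj s).injective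
    rw [← e1, ← e2]
    exact card_le_of_le h1
  exact (eq_of_le_of_card_ge hTX h2).ge

end Cfsg.Agent.Omega.IId.Surv
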