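import Cfsg.Agent.Omega.IId.BigD.Surv.End
import Cfsg.Agent.Omega.IId.BigD.Frame

/-!
# CvBig (ii), `q = 2` (bb OMEGA 21130, helper165): the plug over `Sit0 M i`

* `Sit0.exists_sd` : the frame `Sd S O₂(P) (fac M) v`, `v l ∈ line M l`, `v i` prescribed;
* **`Sit0.surv_false`** : (SURV) is impossible.
-/

set_option autoImplicit false
set_option linter.unusedSectionVars false

namespace Cfsg.Agent.Omega.IId.NV.BigD

open Subgroup Pointwise Cfsg Cfsg.Agent.ZN Cfsg.Agent.ZN.ChoiceBase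
open Cfsg.Agent.Omega.MinPar Cfsg.Agent.Omega.FFThm
open Cfsg.Agent.MinSimple.VModule (o2_isPGroup)
open Cfsg.Agent.Omega.IId.NV
open Cfsg.Agent.Omega.IId.Big (Fr Vo conj_mem norm_of comm_of_conj conj_of_comm isPGroup_of_sq le_Vo Vo_le
  cent_of_closure norm_o2)
open Triangle (KK KK_conj KK_le_o2 mem_cent mem_KK mem_zpowers_iff_of_sq cent_conj o2_cent_conj)
open Cfsg.Agent.Omega.IId.Surv (Sd Sv CX)

universe u

local notation "cz" v:max => centralizer ({v} : Set _)
local notation "qz" v:max => ZN.o2 (centralizer ({v} : Set _))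

variable {G : Type u} [Group G] [Finite G] {F : Type} [Field F] [Finite F] [CharP F 2] {S : Sylow 2 G}
  {P V D : Subgroup G} {k : ℕ} {M : NatD F S P V D k} {i : Fin k}

include M in
/-- a 2-subgroup of `C_G(V)` normal in `C_G(V)` lies in `O₂(P)` -/
theorem le_o2_of_cent {N : Subgroup G} (hN : IsPGroup 2 N) (hNC : N ≤ centralizer (V : Set G))
    (hn : centralizer (V : Set G) ≤ normalizer (N : Set G)) : N ≤ ZN.o2 P := by
  have hp : Fact (Nat.Prime 2) := ⟨Nat.prime_two⟩
  have hSP : (S : Subgroup G) ≤ P := SP M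
  set C : Subgroup G := centralizer (V : Set G) with hC
  have h1 : N ≤ ZN.o2 C := MinSimple.VModule.le_o2 hNC hN hn
  have hPC : P ≤ normalizer (C : Set G) := by
    apply norm_of
    intro p hp c hc
    refine mem_centralizer_iff.2 fun x hx => ?_
    have hx' : p⁻¹ * x * p ∈ V := cj_mem' M.toNatV hp hx
    have h2 := mem_centralizer_iff.1 hc _ hx'
    calc x * (p * c * p⁻¹) = p * ((p⁻¹ * x * p) * c) * p⁻¹ := by group
      _ = p * c * p⁻¹ * x := by rw [h2]; group
  have hPo : P ≤ normalizer (ZN.o2 C : Set G) := norm_o2 hPC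
  have h2 : ZN.o2 C ≤ (S : Subgroup G) := by
    have h3 : IsPGroup 2 ((S : Subgroup G) ⊔ ZN.o2 C : Subgroup G) :=
      IsPGroup.to_sup_of_normal_right' S.isPGroup' (o2_isPGroup C) (hSP.trans hPo)
    rw [← S.is_maximal' h3 le_sup_left]
    exact le_sup_right
  exact h1.trans (MinSimple.VModule.le_o2 (h2.trans hSP) (o2_isPGroup C) hPo)

namespace Sit0

variable (h : Sit0 M i)
include h

/-- **The frame.** -/
theorem exists_sd {v₁ : G} (hv₁ : v₁ ∈ line M.toNatV i) (hv₁1 : v₁ ≠ 1) :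
    ∃ v : Fin k → G, v i = v₁ ∧ Sd (S : Subgroup G) (ZN.o2 P) (fac M.toNatV) v := by
  classical
  have hSP : (S : Subgroup G) ≤ P := h.SP
  choose v₀ hv₀ hv₀1 using exists_line M
  obtain ⟨v, ev⟩ : ∃ v : Fin k → G, v = Function.update v₀ i v₁ := ⟨_, rfl⟩
  have hvi : v i = v₁ := by rw [ev, Function.update_self]
  have hv : ∀ l, v l ∈ line M.toNatV l := by
    intro l
    by_cases hl : l = i
    · subst hl; rw [hvi]; exact hv₁
    · rw [ev, Function.update_of_ne hl]; exact hv₀ l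
  have hv1 : ∀ l, v l ≠ 1 := by
    intro l
    by_cases hl : l = i
    · subst hl; rw [hvi]; exact hv₁1
    · rw [ev, Function.update_of_ne hl]; exact hv₀1 l
  have hline : ∀ s (hs : s ∈ (S : Subgroup G)) l, s * v l * s⁻¹ = v (sg M.toNatV (hSP hs) l) := by
    intro s hs l
    have h1 : s * v l * s⁻¹ ∈ line M.toNatV (sg M.toNatV (hSP hs) l) := by
      rw [← conj_line M.toNatV hSP hs]
      exact ⟨v l, hv l, rfl⟩
    exact (eq_of_line h.two (hv _) (hv1 _) h1).resolve_left (cj_ne_one (hv1 l))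
  have hPo : P ≤ normalizer (ZN.o2 P : Set G) := MinSimple.VModule.le_normalizer_o2 P
  refine ⟨v, hvi, ?_⟩
  refine
    { fr := h.fr
      vV := fun l => line_le _ l (hv l)
      v1 := hv1
      perm := ?_
      tr := ?_
      KS := fun l => (h.fr.KK_le_q (line_le _ l (hv l)) (hv1 l)).trans (h.cc l _ (hv l) (hv1 l)).1
      VK := fun l j p hp hp1 => ((fac_le _ j).trans M.V_le).trans (zl_le_KK h.cc h.two hp hp1)
      QS := o2_le_S M
      QV := fun l x hx q hq => (MinSimple.VModule.mem_zc.1 (V_le_zz M hx.1)).2.1 q hq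
      QQ := ThmC.TwoOf.centralizer_o2_le M.hG S M.star
      NQ := ?_
      KQ := fun l p hp hp1 => ((h.fr.KK_le_q hp hp1).trans (q_le_P h.cc hp hp1)).trans hPo
      SQ := hSP.trans hPo
      SY := fun s hs hsV z hz => h.comm_of_fac (hSP hs) hsV hz }
  · intro s hs l
    refine ⟨sg M.toNatV (hSP hs) l, fun x hx => ?_, hline s hs l⟩
    rw [← conj_fac M.toNatV (hSP hs)]
    exact ⟨x, hx, rfl⟩
  · intro l j
    obtain ⟨s, hs, h1⟩ := exists_trans M.toNatV hSP l j
    refine ⟨s, hs, ?_⟩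
    rw [conj_fac M.toNatV (hSP hs)] at h1
    rw [hline s hs l, fac_inj M.toNatV h1]
  · intro N hN h1 h2
    refine le_o2_of_cent (M := M) hN (fun n hn => mem_centralizer_iff.2 fun x hx => ?_)
      (norm_of fun c hcc n hn => ?_)
    · have h3 : V ≤ centralizer ({n} : Set G) :=
        (V_le_iSup (M := M)).trans (iSup_le fun l y hy => mem_cent.2 (h1 l y hy n hn).symm)
      exact mem_cent.1 (h3 hx)
    · exact h2 c (fun l x hx => (mem_centralizer_iff.1 hcc x hx.1).symm) n hn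

/-- **(SURV) is impossible.** -/
theorem surv_false {v₁ y g : G} (hv₁ : v₁ ∈ line M.toNatV i) (hv₁1 : v₁ ≠ 1) (hy : y ∈ zc (ZN.o2 P))
    (hy1 : y ≠ 1) (hyX : ∀ p ∈ fac M.toNatV i, p ≠ 1 → ∀ x ∈ KK p, x * y = y * x)
    (hyT : ∀ t ∈ stab M.toNatV i, t * y = y * t) (hg : g * v₁ * g⁻¹ = v₁ * y) (hgy : g * y * g⁻¹ = y)
    (hgF : g ∈ normalizer ((fac M.toNatV i ⊔ zpowers y : Subgroup G) : Set G)) : False := by
  obtain ⟨v, hvi, hsd⟩ := h.exists_sd hv₁ hv₁1
  subst hvi
  refine Sv.false (S := S) (Q := ZN.o2 P) (V := fac M.toNatV) (v := v) (i := i) (y := y) (g₀ := g)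
    { sd := hsd
      hy := hy
      y1 := hy1
      yX := hyX
      yT := fun t ht htv => hyT t ?_
      gv := hg
      gy := hgy
      gF := hgF }
  refine mem_inf.2 ⟨ht, mem_normalizer_iff.2 fun x => ⟨fun hx => hsd.fix_line ht htv hx, fun hx => ?_⟩⟩
  have h2 := hsd.fix_line (inv_mem ht) ((show Commute t (v i) from htv).inv_left).eq hx
  have e : t⁻¹ * (t * x * t⁻¹) * t⁻¹⁻¹ = x := by group
  rwa [e] at h2

end Sit0

end Cfsg.Agent.Omega.IId.NV.BigD
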