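import Cfsg.Agent.Omega.IId.BigD.Surv.Base

/-!
# CvBig (ii), `q = 2` (bb OMEGA 21130, helper165): (2), (3)

`St … t` : (SURV) with the element `t`; `Sl … t l` : with the index `l`.

* `Sd.centre` : an element of `S` which acts on `Ω₁Z(Q)` with commutators in `{1, u}` has `u = v m`;
* `St.exists_l` : `Q^t` moves some `V l`;
* `St.three` : then `v l ^ t = c * v l`, `l ≠ i`, and `v l * y` is centralised by all `W_p`;
* `St.exists_sl`.
-/

set_option autoImplicit false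
set_option linter.unusedSectionVars false

namespace Cfsg.Agent.Omega.IId.Surv

open Subgroup Cfsg
open Cfsg.Agent.ZN (o2 zc)
open Cfsg.Agent.MinSimple.VModule (le_o2 le_normalizer_o2 mem_zc o2_isPGroup o2_le normalizer_le_normalizer_zc)
open Triangle (KK KK_conj KK_le_o2 mem_cent mem_KK mem_zpowers_iff_of_sq cent_conj o2_cent_conj)
open Big (Fr Vo cz qz conj_mem norm_of comm_of_conj conj_of_comm isPGroup_of_sq le_Vo Vo_le cent_of_closure
  norm_o2 le_o2_of sq_of_closure)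
open Big.Syl (YY mem_YY YY_le exists_conj_le)

universe u

variable {G : Type u} [Group G]

/-- the centre of an element of `S` acting on `Ω₁Z(Q)` with commutators in `{1, u}` -/
theorem Sd.centre [Finite G] {ι : Type} {S Q : Subgroup G} {V : ι → Subgroup G} {v : ι → G} (h : Sd S Q V v)
    {s u : G} (hs : s ∈ S) (hu : ∀ z ∈ zc Q, s * z * s⁻¹ = z ∨ s * z * s⁻¹ = u * z)
    (hne : ∃ z ∈ zc Q, s * z * s⁻¹ ≠ z) : ∃ m, u = v m := by
  by_cases hfix : ∀ j, s * v j = v j * s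
  · -- `s` normalises all `V j`
    by_contra hcon
    push Not at hcon
    obtain ⟨z, hz, hzs⟩ := hne
    apply hzs
    refine conj_of_comm (h.SY s hs (fun j x hx => ?_) z hz)
    rcases h.fix_act hs (hfix j) hx with h1 | h1
    · exact comm_of_conj h1
    · rcases hu x (h.V_zq j hx) with h2 | h2
      · exact comm_of_conj h2
      · exact absurd (mul_right_cancel (h2.symm.trans h1)) (hcon j)
  · exfalso
    push Not at hfix
    obtain ⟨j, hj⟩ := hfix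
    obtain ⟨j', hj', hvj⟩ := h.perm s hs j
    have hjj : j ≠ j' := by
      rintro rfl
      exact hj (comm_of_conj hvj)
    have h1 : v j' = u * v j := by
      rcases hu (v j) (h.v_zq j) with h1 | h1
      · exact absurd (comm_of_conj h1) hj
      · rw [← hvj, h1]
    obtain ⟨e, he, he1, hve⟩ := h.fr.exists_other (i := j) (v j)
    have he' := hj' e he
    rcases hu e (h.V_zq j he) with h2 | h2
    · rw [h2] at he'
      exact he1 (h.fr.disj hjj he he')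
    · rw [h2] at he'
      have h3 : u = v j' * v j := by
        rw [h1, mul_assoc, h.fr.sq j _ (h.vV j), mul_one]
      rw [h3, mul_assoc, mul_mem_cancel_left (h.vV j')] at he'
      have h4 := h.fr.disj hjj (mul_mem (h.vV j) he) he'
      have h5 := eq_inv_of_mul_eq_one_left h4
      rw [inv_eq_of_mul_eq_one_left (h.fr.sq j e he)] at h5
      exact hve h5

/-- (SURV) with the element `t` -/
structure St [Finite G] {ι : Type} (S : Sylow 2 G) (Q : Subgroup G) (V : ι → Subgroup G) (v : ι → G) (i : ι)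
    (y g₀ t : G) : Prop extends Sv S Q V v i y g₀ where
  tK : t ∈ KK (v i * y)
  tT : t ∉ (S : Subgroup G) ⊓ cz (v i)
  tn : t ∈ normalizer (((S : Subgroup G) ⊓ cz (v i) : Subgroup G) : Set G)
  tt : t * t ∈ (S : Subgroup G) ⊓ cz (v i)

namespace St

variable [Finite G] {ι : Type} {S : Sylow 2 G} {Q : Subgroup G} {V : ι → Subgroup G} {v : ι → G} {i : ι}
  {y g₀ t : G} (h : St S Q V v i y g₀ t)
include h

theorem tq : t ∈ qz (v i * y) := h.KKc_le h.tK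

theorem t_v : t * v i = v i * t := h.qzc_v h.tq

theorem t_y : t * y = y * t := h.qzc_y h.tq

theorem t_c : t * (v i * y) = v i * y * t := (mem_KK.1 h.tK).1

theorem tT1 {x : G} (hx : x ∈ (S : Subgroup G) ⊓ cz (v i)) : t * x * t⁻¹ ∈ (S : Subgroup G) ⊓ cz (v i) :=
  (mem_normalizer_iff.1 h.tn x).1 hx

theorem tT2 {x : G} (hx : x ∈ (S : Subgroup G) ⊓ cz (v i)) : t⁻¹ * x * t ∈ (S : Subgroup G) ⊓ cz (v i) := by
  have := (mem_normalizer_iff.1 (inv_mem h.tn) x).1 hx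
  rwa [inv_inv] at this

/-- the element `κ_q = [t, q]` of `W_c ∩ T` -/
theorem kap {q : G} (hq : q ∈ Q) :
    t * q * t⁻¹ * q⁻¹ ∈ KK (v i * y) ∧ t * q * t⁻¹ * q⁻¹ ∈ (S : Subgroup G) ⊓ cz (v i) := by
  refine ⟨?_, mul_mem (h.tT1 (h.Q_T hq)) (inv_mem (h.Q_T hq))⟩
  have e : t * q * t⁻¹ * q⁻¹ = t * (q * t⁻¹ * q⁻¹) := by group
  rw [e]
  exact mul_mem h.tK (Sv.conjK (h.Q_c hq) (inv_mem h.tK))

/-- `κ ∈ W_c ∩ T` acts on `V j` as `1` or `x ↦ v j * x` -/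
theorem k_act {k : G} (hk : k ∈ KK (v i * y)) (hkT : k ∈ (S : Subgroup G) ⊓ cz (v i)) {j : ι} {x : G}
    (hx : x ∈ V j) : k * x * k⁻¹ = x ∨ k * x * k⁻¹ = v j * x :=
  h.sd.fix_act hkT.1 (h.KT_fix hk hkT j) hx

/-- `Q^t` commutes with `z` ⇒ `z^(t⁻¹) ∈ Ω₁Z(Q)` -/
theorem conj_zq {z : G} (hz : z ∈ zc Q) (hq : ∀ q ∈ Q, t * q * t⁻¹ * z = z * (t * q * t⁻¹)) :
    t⁻¹ * z * t ∈ zc Q := by
  refine h.sd.mem_zq (fun q hqQ => ?_) ?_
  · have h1 := hq q hqQ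
    calc q * (t⁻¹ * z * t) = t⁻¹ * ((t * q * t⁻¹) * z) * t := by group
      _ = t⁻¹ * z * t * q := by rw [h1]; group
  · calc t⁻¹ * z * t * (t⁻¹ * z * t) = t⁻¹ * (z * z) * t := by group
      _ = 1 := by rw [h.sd.zq_sq hz]; group

/-- `Q^t` commutes with `z` if all `κ_q` do -/
theorem conj_zq' {z : G} (hz : z ∈ zc Q) (hq : ∀ q ∈ Q, t * q * t⁻¹ * q⁻¹ * z = z * (t * q * t⁻¹ * q⁻¹)) :
    t⁻¹ * z * t ∈ zc Q := by
  refine h.conj_zq hz fun q hqQ => ?_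
  calc t * q * t⁻¹ * z = (t * q * t⁻¹ * q⁻¹) * (q * z) := by group
    _ = ((t * q * t⁻¹ * q⁻¹) * z) * q := by rw [h.sd.zq_comm hz hqQ]; group
    _ = z * (t * q * t⁻¹) := by rw [hq q hqQ]; group

theorem S_zq {s z : G} (hs : s ∈ (S : Subgroup G)) (hz : z ∈ zc Q) : s * z * s⁻¹ ∈ zc Q :=
  conj_mem (h.sd.SQ.trans (normalizer_le_normalizer_zc Q)) hs hz

/-- `t * z * t⁻¹ ∈ Ω₁Z(Q)` if `t⁻¹ * z * t ∈ Ω₁Z(Q)` -/
theorem swap {z : G} (hz : t⁻¹ * z * t ∈ zc Q) : t * z * t⁻¹ ∈ zc Q := by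
  have h1 := h.S_zq h.tt.1 hz
  have e : t * t * (t⁻¹ * z * t) * (t * t)⁻¹ = t * z * t⁻¹ := by group
  rwa [e] at h1

theorem swap' {z : G} (hz : t * z * t⁻¹ ∈ zc Q) : t⁻¹ * z * t ∈ zc Q := by
  have h1 := h.S_zq (inv_mem h.tt.1) hz
  have e : (t * t)⁻¹ * (t * z * t⁻¹) * (t * t)⁻¹⁻¹ = t⁻¹ * z * t := by group
  rwa [e] at h1

/-- **(2)**: `Q^t` moves some `V l`. -/
theorem exists_l : ∃ q ∈ Q, ∃ l, ∃ e ∈ V l,
    t * q * t⁻¹ * q⁻¹ * e * (t * q * t⁻¹ * q⁻¹)⁻¹ = v l * e := by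
  by_contra hcon
  push Not at hcon
  have h1 : ∀ z ∈ zc Q, t⁻¹ * z * t ∈ zc Q := by
    intro z hz
    refine h.conj_zq' hz fun q hq => ?_
    refine h.sd.SY _ (h.kap hq).2.1 (fun j x hx => ?_) z hz
    rcases h.k_act (h.kap hq).1 (h.kap hq).2 hx with h2 | h2
    · exact comm_of_conj h2
    · exact absurd h2 (hcon q hq j x hx)
  have h1' : ∀ z ∈ zc Q, t * z * t⁻¹ ∈ zc Q := fun z hz => h.swap (h1 z hz)
  -- `t` permutes the `v l`
  have h2 : ∀ l, ∃ m, t * v l * t⁻¹ = v m := by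
    intro l
    obtain ⟨e, he, he1, hve⟩ := h.sd.fr.exists_other (i := l) (v l)
    obtain ⟨a, ha, hae⟩ := h.sd.fr.move (h.sd.vV l) he (h.sd.v1 l) he1 hve
    have haT : a ∈ (S : Subgroup G) ⊓ cz (v i) := by
      refine ⟨h.sd.KS l ha, mem_cent.2 ?_⟩
      by_cases hli : l = i
      · subst hli
        exact Fr.KK_comm ha
      · exact h.sd.fr.Qc l i (Ne.symm hli) _ (h.sd.vV l) (h.sd.v1 l) a
          (h.sd.fr.KK_le_q (h.sd.vV l) (h.sd.v1 l) ha) _ (h.sd.vV i)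
    refine h.sd.centre (s := t * a * t⁻¹) (h.tT1 haT).1 (fun z hz => ?_) ⟨t * e * t⁻¹, h1' e (h.sd.V_zq l he), ?_⟩
    · rcases h.sd.zq_act (h.sd.vV l) (h.sd.v1 l) ha (h1 z hz) with h3 | h3
      · left
        calc t * a * t⁻¹ * z * (t * a * t⁻¹)⁻¹ = t * (a * (t⁻¹ * z * t) * a⁻¹) * t⁻¹ := by group
          _ = z := by rw [h3]; group
      · right
        calc t * a * t⁻¹ * z * (t * a * t⁻¹)⁻¹ = t * (a * (t⁻¹ * z * t) * a⁻¹) * t⁻¹ := by group
          _ = t * v l * t⁻¹ * z := by rw [h3]; group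
    · intro h3
      have h4 : a * e * a⁻¹ = e := by
        calc a * e * a⁻¹ = t⁻¹ * (t * a * t⁻¹ * (t * e * t⁻¹) * (t * a * t⁻¹)⁻¹) * t := by group
          _ = e := by rw [h3]; group
      rw [h4] at hae
      exact h.sd.v1 l (mul_eq_right.1 hae.symm)
  have h3 : t ∈ LL v := by
    refine mem_LL.2 ⟨h2, fun l => ?_⟩
    obtain ⟨m, -, hm⟩ := h.sd.perm (t * t)⁻¹ (inv_mem h.tt.1) l
    obtain ⟨n, hn⟩ := h2 m
    refine ⟨n, ?_⟩
    calc t⁻¹ * v l * t = t * ((t * t)⁻¹ * v l * (t * t)⁻¹⁻¹) * t⁻¹ := by group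
      _ = v n := by rw [hm, hn]
  have hT2 : IsPGroup 2 ((S : Subgroup G) ⊓ cz (v i) : Subgroup G) := S.isPGroup'.to_le inf_le_left
  have hz2 : IsPGroup 2 (zpowers t) := (o2_isPGroup (cz (v i * y))).to_le ((zpowers_le).2 h.tq)
  have h4 := h.sd.kp i (X := zpowers t ⊔ ((S : Subgroup G) ⊓ cz (v i)))
    (IsPGroup.to_sup_of_normal_right' hz2 hT2 ((zpowers_le).2 h.tn))
    (sup_le ((zpowers_le).2 (mem_cent.2 h.t_v)) inf_le_right) le_sup_right
    (sup_le ((zpowers_le).2 h3) (inf_le_left.trans h.sd.S_LL))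
  exact h.tT (h4 (mem_sup_left (mem_zpowers t)))

/-- **(3)** -/
theorem three {q : G} (hq : q ∈ Q) {l : ι} {e : G} (he : e ∈ V l)
    (hke : t * q * t⁻¹ * q⁻¹ * e * (t * q * t⁻¹ * q⁻¹)⁻¹ = v l * e) :
    l ≠ i ∧ t⁻¹ * v l * t = v i * y * v l ∧ ∀ j, v l * y ∈ CX V j := by
  obtain ⟨hk, hkT⟩ := h.kap hq
  have hvl1 := h.sd.v1 l
  have hvl := h.sd.vV l
  have hli : l ≠ i := by
    rintro rfl
    rw [conj_of_comm (h.KT_V hk hkT he)] at hke
    exact hvl1 (mul_eq_right.1 hke.symm)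
  -- LEMMA 1'
  have hti : t⁻¹ * v i = v i * t⁻¹ := ((show Commute t (v i) from h.t_v).inv_left).eq
  have hf : t⁻¹ * e * t ∈ zc (qz (v i)) := by
    have h1 := h.sd.zc_conj hti (h.sd.V_le_zc hli (h.sd.vV i) (h.sd.v1 i) he)
    rwa [inv_inv] at h1
  have hw1 : t⁻¹ * v l * t ≠ 1 := fun h0 => hvl1 (by
    calc v l = t * (t⁻¹ * v l * t) * t⁻¹ := by group
      _ = 1 := by rw [h0]; group)
  have hQ : ∀ q' ∈ Q, q' * (t⁻¹ * e * t) * q'⁻¹ = t⁻¹ * e * t ∨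
      q' * (t⁻¹ * e * t) * q'⁻¹ = t⁻¹ * v l * t * (t⁻¹ * e * t) := by
    intro q' hq'
    have e1 : q' * (t⁻¹ * e * t) * q'⁻¹ = t⁻¹ * ((t * q' * t⁻¹ * q'⁻¹) * (q' * e * q'⁻¹) *
        (t * q' * t⁻¹ * q'⁻¹)⁻¹) * t := by group
    rw [e1, conj_of_comm (h.sd.QV l e he q' hq')]
    rcases h.k_act (h.kap hq').1 (h.kap hq').2 he with h1 | h1
    · left; rw [h1]
    · right; rw [h1]; group
  have hex : ∃ q' ∈ Q, q' * (t⁻¹ * e * t) * q'⁻¹ = t⁻¹ * v l * t * (t⁻¹ * e * t) := by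
    refine ⟨q, hq, ?_⟩
    have e1 : q * (t⁻¹ * e * t) * q⁻¹ = t⁻¹ * ((t * q * t⁻¹ * q⁻¹) * (q * e * q⁻¹) *
        (t * q * t⁻¹ * q⁻¹)⁻¹) * t := by group
    rw [e1, conj_of_comm (h.sd.QV l e he q hq), hke]
    group
  obtain ⟨hwz, hwX⟩ := h.sd.one' hf hw1 hQ hex
  -- `v l ∈ W_c`
  have hvK : v l ∈ KK (v i * y) := by
    have h1 : v l = (t * q * t⁻¹ * q⁻¹) * (e * (t * q * t⁻¹ * q⁻¹)⁻¹ * e⁻¹) := by
      calc v l = v l * e * e⁻¹ := by group
        _ = _ := by rw [← hke]; group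
    rw [h1]
    exact mul_mem hk (Sv.conjK (h.zq_c (h.sd.V_zq l he)) (inv_mem hk))
  have htw : t⁻¹ * v l * t = v i * y * v l := by
    rcases h.act hvK h.tq with h1 | h1
    · exfalso
      have h2 : t⁻¹ * v l * t = v l := by
        rw [mul_assoc, comm_of_conj h1]
        group
      rw [h2] at hwX
      exact h.sd.v_notCX l (hwX l hli)
    · have h2 : v l * t = v i * y * t * v l := by
        calc v l * t = (v l * t * (v l)⁻¹) * v l := by group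
          _ = v i * y * t * v l := by rw [h1]
      calc t⁻¹ * v l * t = t⁻¹ * (v l * t) := by group
        _ = t⁻¹ * ((v i * y * t) * v l) := by rw [h2]
        _ = t⁻¹ * ((t * (v i * y)) * v l) := by rw [h.t_c]
        _ = v i * y * v l := by group
  refine ⟨hli, htw, fun j => ?_⟩
  by_cases hji : j = i
  · subst hji
    exact mul_mem (h.sd.v_CX hli) h.yX
  · have h1 : v l * y = v i * (t⁻¹ * v l * t) := by
      have h2 : y * v l = v l * y := h.sd.zq_mul_comm h.hy (h.sd.v_zq l)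
      rw [htw]
      calc v l * y = y * v l := h2.symm
        _ = (v i * v i) * y * v l := by rw [h.sd.fr.sq i _ (h.sd.vV i), one_mul]
        _ = v i * (v i * y * v l) := by group
    rw [h1]
    exact mul_mem (h.sd.v_CX (Ne.symm hji)) (hwX j hji)

end St

/-- (SURV) with the element `t` and the index `l` -/
structure Sl [Finite G] {ι : Type} (S : Sylow 2 G) (Q : Subgroup G) (V : ι → Subgroup G) (v : ι → G) (i : ι)
    (y g₀ t : G) (l : ι) : Prop extends St S Q V v i y g₀ t where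
  li : l ≠ i
  dX : ∀ j, v l * y ∈ CX V j
  tl : t⁻¹ * v l * t = v i * y * v l
  k0 : ∃ q ∈ Q, ∃ e ∈ V l, t * q * t⁻¹ * q⁻¹ * e * (t * q * t⁻¹ * q⁻¹)⁻¹ = v l * e
  kj : ∀ q ∈ Q, ∀ j, j ≠ l → ∀ x ∈ V j, t * q * t⁻¹ * q⁻¹ * x = x * (t * q * t⁻¹ * q⁻¹)

theorem St.exists_sl [Finite G] {ι : Type} {S : Sylow 2 G} {Q : Subgroup G} {V : ι → Subgroup G} {v : ι → G}
    {i : ι} {y g₀ t : G} (h : St S Q V v i y g₀ t) : ∃ l, Sl S Q V v i y g₀ t l := by
  obtain ⟨q, hq, l, e, he, hke⟩ := h.exists_l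
  obtain ⟨hli, htl, hd⟩ := h.three hq he hke
  refine ⟨l, { h with li := hli, dX := hd, tl := htl, k0 := ⟨q, hq, e, he, hke⟩, kj := ?_ }⟩
  intro q' hq' j hjl x hx
  rcases h.k_act (h.kap hq').1 (h.kap hq').2 hx with h1 | h1
  · exact comm_of_conj h1
  · exfalso
    obtain ⟨-, -, hd'⟩ := h.three hq' hx h1
    have h2 : v l ∈ CX V l := by
      have h3 : v l = (v l * y) * (v j * y)⁻¹ * v j := by group
      rw [h3]
      exact mul_mem (mul_mem (hd l) (inv_mem (hd' l))) (h.sd.v_CX hjl)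
    exact h.sd.v_notCX l h2

end Cfsg.Agent.Omega.IId.Surv
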